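import Cfsg.Agent.Orthogonal.O83.CheckDefs

/-!
# Elements of order three over the class 3 of the Levi part of `Ω⁺(8,3)`
-/

set_option autoImplicit false

namespace Cfsg.Agent.Orthogonal.O83

theorem cand3_ok : checkFrom (candOK 3) 0 cand3L = true := by decide +kernel

theorem cand3_length : cand3L.length = 729 := by decide +kernel

end Cfsg.Agent.Orthogonal.O83
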