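import Cfsg.Agent.Orthogonal.O83.CheckDefs

/-!
# The Levi factor, the radical and the positive root elements of `Ω⁺(8,3)`
-/

set_option autoImplicit false

namespace Cfsg.Agent.Orthogonal.O83

theorem red_ok : checkFrom redOK 0 redL = true := by decide +kernel

theorem red_length : redL.length = 729 := by decide +kernel

/-- The check of an entry of the table of conjugates of the radical. -/
def conjOK (p m : ℕ) : Bool :=
  Nat.blt m 729 && sameW [levL.getD (p / 6) 0, genL.getD (p % 6) 0] (Nw m ++ [levL.getD (p / 6) 0])

theorem conj_ok : checkFrom conjOK 0 conjL = true := by decide +kernel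

theorem conj_length : conjL.length = 6 * levL.length := by decide +kernel

theorem gen_sq : ∀ i : Fin 6, sameW [genL.getD i.val 0, genL.getD i.val 0] [genL.getD i.val 0 + 1] = true := by
  decide +kernel

theorem gen_zero : ∀ i : Fin 6, sameW [genL.getD i.val 0 - 1] [] = true := by decide +kernel

theorem nw_zero : sameW (Nw 0) [] = true := by decide +kernel

theorem isLev_iff : ∀ l : Fin 72, isLev l.val = true ↔ l.val ∈ levL := by decide +kernel

theorem levMask_lt : levMask < 2 ^ 72 := by decide +kernel

theorem dw_lev : ∀ t : Fin 3, ∀ r ∈ [13, 14, 16, 18, 19, 21], isLev (3 * r + t.val) = true := by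
  decide +kernel

/-- Strictly increasing lists. -/
def chainLt : List ℕ → Bool
  | [] => true
  | [_] => true
  | a :: b :: l => Nat.blt a b && chainLt (b :: l)

/-- The key of a code. -/
def keyC (c : Code) : ℕ := c.1 + 2 ^ 64 * c.2

theorem sortD_ok : chainLt (sortD.map fun a => keyC (wordC (Dw a))) = true := by decide +kernel

theorem sortN_ok : chainLt (sortN.map fun a => keyC (wordC (Nw a))) = true := by decide +kernel

theorem sortD_mem : sortD.length = 729 ∧ sortD.all (fun a => Nat.blt a 729) = true := by decide +kernel

theorem sortN_mem : sortN.length = 729 ∧ sortN.all (fun a => Nat.blt a 729) = true := by decide +kernel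

/-- The positions of the top right block. -/
def trMask : ℕ := 4042322160

/-- The check that a word of the radical has a top right block. -/
def blockOK (n : ℕ) : Bool :=
  Nat.beq n 0 || !(Nat.beq ((wordC (Nw n)).1 &&& trMask) 0 && Nat.beq ((wordC (Nw n)).2 &&& trMask) 0)

theorem block_ok : (List.range 729).all blockOK = true := by decide +kernel

theorem trMask_pos : ∀ k : Fin 64, trMask.testBit k.val = true → k.val / 8 < 4 ∧ 4 ≤ k.val % 8 := by
  decide +kernel

theorem lev_block : ∀ l ∈ levL, ∀ i j : Fin 8, (decide (i.val < 4) != decide (j.val < 4)) = true →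
    ent (wordC [l]) (8 * i.val + j.val) = 0 := by decide +kernel

end Cfsg.Agent.Orthogonal.O83
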