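import Cfsg.Agent.Orthogonal.O83.CheckDefs

/-!
# The multiplication table of the unipotent radical in `Ω⁺(8,3)`
-/

set_option autoImplicit false
set_option Elab.async false

namespace Cfsg.Agent.Orthogonal.O83

/-- Adding one to a digit. -/
def addD (n i : ℕ) : ℕ := if dig n i < 2 then n + 3 ^ (5 - i) else n - 2 * 3 ^ (5 - i)

/-- The check of the multiplication table of the radical at a position. -/
def addOK (n : ℕ) : Bool :=
  (List.range 6).all fun i => Nat.blt (addD n i) 729 && sameW (Nw n ++ [genL.getD i 0]) (Nw (addD n i))

theorem add_ok0 : (List.range' 0 243).all addOK = true := by decide +kernel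

theorem add_ok1 : (List.range' 243 243).all addOK = true := by decide +kernel

theorem add_ok2 : (List.range' 486 243).all addOK = true := by decide +kernel

theorem add_ok {n : ℕ} (hn : n < 729) : addOK n = true := by
  rcases Nat.lt_or_ge n 243 with h | h
  · exact List.all_eq_true.1 add_ok0 n (List.mem_range'_1.2 ⟨Nat.zero_le _, by omega⟩)
  rcases Nat.lt_or_ge n 486 with h' | h'
  · exact List.all_eq_true.1 add_ok1 n (List.mem_range'_1.2 ⟨h, by omega⟩)
  · exact List.all_eq_true.1 add_ok2 n (List.mem_range'_1.2 ⟨h', by omega⟩)

end Cfsg.Agent.Orthogonal.O83
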