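import Mathlib
import Cfsg.Agent.Orthogonal.O83.CheckLevi
import Cfsg.Agent.Orthogonal.O83.CheckRad
import Cfsg.Agent.Orthogonal.O83.CheckCand0
import Cfsg.Agent.Orthogonal.O83.CheckCand1
import Cfsg.Agent.Orthogonal.O83.CheckCand2
import Cfsg.Agent.Orthogonal.O83.CheckCand3
import Cfsg.Agent.Orthogonal.O83.CheckCand4
import Cfsg.Agent.H58.OrthoField.D4Normal
import Cfsg.Agent.H27.D4Order
import Cfsg.Agent.Linear.Unitriangular

/-!
# Every element of order three of `Ω⁺(8,3)` is conjugate to one of thirteen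

The positive root elements form a Sylow 3-subgroup, the product of the positive part of the Levi factor
and the abelian unipotent radical; the Levi part is first reduced to five representatives.
-/

set_option autoImplicit false

namespace Cfsg.Agent.Orthogonal.O83

open Matrix
open Cfsg.Agent.H27.SplitOrtho (elGroup)
open Cfsg.Agent.H27.D4 (I8)

theorem letterEl_eq_of {l l' : ℕ} (h1 : lR l = lR l') (h2 : l % 3 = l' % 3) :
    letterEl l = letterEl l' := by rw [letterEl, letterEl, h1, h2]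

theorem elem_eq_one_of_sameW {u : List ℕ} (h : sameW u [] = true) : elem u = 1 :=
  (elem_eq_of_sameW h).trans elem_nil

theorem inv_eq_pow (g : E) : g⁻¹ = g ^ (orderOf g - 1) := by
  refine inv_eq_of_mul_eq_one_right ?_
  rw [← pow_succ', Nat.sub_add_cancel (orderOf_pos g), pow_orderOf_eq_one]

/-! ### The radical -/

/-- The unipotent radical. -/
noncomputable def Rad : Subgroup E :=
  Subgroup.closure (Set.range fun i : Fin 6 => letterEl (genL.getD i.val 0))

theorem add_spec {n : ℕ} (hn : n < 729) (i : Fin 6) :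
    addD n i.val < 729 ∧ elem (Nw n) * letterEl (genL.getD i.val 0) = elem (Nw (addD n i.val)) := by
  have h := add_ok hn
  have h' := List.all_eq_true.1 h i.val (List.mem_range.2 i.isLt)
  simp only [Bool.and_eq_true, Nat.blt_eq] at h'
  exact ⟨h'.1, by rw [← elem_singleton, ← elem_append]; exact elem_eq_of_sameW h'.2⟩

theorem gen_three (i : Fin 6) : letterEl (genL.getD i.val 0) ^ 2 * letterEl (genL.getD i.val 0) = 1 := by
  have h := elem_eq_of_sameW (gen_sq i)
  simp only [elem_cons, elem_nil, mul_one] at h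
  rw [pow_two, h]
  refine Subtype.ext ?_
  show (letterEl (genL.getD i.val 0 + 1)).1 * (letterEl (genL.getD i.val 0)).1 = 1
  have hl : ∀ i : Fin 6, lR (genL.getD i.val 0 + 1) = lR (genL.getD i.val 0) ∧
      ((((genL.getD i.val 0 + 1) % 3 : ℕ) : K)) + (((genL.getD i.val 0) % 3 : ℕ) : K) = 0 := by
    decide +kernel
  obtain ⟨h1, h2⟩ := hl i
  simp only [letterEl, h1, H27.D4.xe, H27.D4.xr, H27.SplitOrtho.el_mul, ← mul_add, h2, mul_zero]
  exact Subtype.ext (Units.ext (H27.SplitOrtho.elMat_zero _ _))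

theorem exists_nw_of_mem {g : E} (hg : g ∈ Rad) : ∃ n < 729, elem (Nw n) = g := by
  refine Subgroup.closure_induction_right ?_ (fun x _ y hy hx => ?_) (fun x _ y hy hx => ?_) hg
  · exact ⟨0, by norm_num, elem_eq_one_of_sameW nw_zero⟩
  · obtain ⟨i, rfl⟩ := hy
    obtain ⟨n, hn, rfl⟩ := hx
    exact ⟨_, (add_spec hn i).1, (add_spec hn i).2.symm⟩
  · obtain ⟨i, rfl⟩ := hy
    obtain ⟨n, hn, rfl⟩ := hx
    obtain ⟨h1, h2⟩ := add_spec hn i
    obtain ⟨h3, h4⟩ := add_spec h1 i
    refine ⟨_, h3, ?_⟩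
    rw [← h4, ← h2, mul_assoc, ← pow_two, inv_eq_of_mul_eq_one_left (gen_three i)]

theorem nw_mem (n : ℕ) : elem (Nw n) ∈ Rad := by
  refine list_prod_mem fun x hx => ?_
  obtain ⟨l, hl, rfl⟩ := List.mem_map.1 hx
  have key : ∀ i : Fin 6, ∀ t : Fin 3, letterEl (genL.getD i.val 0 - 1 + t.val) ∈ Rad := by
    intro i t
    have hg : letterEl (genL.getD i.val 0) ∈ Rad := Subgroup.subset_closure ⟨i, rfl⟩
    fin_cases t
    · have h := elem_eq_one_of_sameW (gen_zero i)
      rw [elem_singleton] at h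
      simp only [Nat.add_zero, h, one_mem]
    · have e : ∀ i : Fin 6, genL.getD i.val 0 - 1 + 1 = genL.getD i.val 0 := by decide +kernel
      simpa only [e] using hg
    · have e : ∀ i : Fin 6, genL.getD i.val 0 - 1 + 2 = genL.getD i.val 0 + 1 := by decide +kernel
      have h := elem_eq_of_sameW (gen_sq i)
      simp only [elem_cons, elem_nil, mul_one] at h
      simpa only [e, ← h] using mul_mem hg hg
  simp only [Nw, List.mem_cons, List.not_mem_nil, or_false] at hl
  have hd : ∀ i, dig n i < 3 := fun i => Nat.mod_lt _ (by norm_num)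
  rcases hl with rfl | rfl | rfl | rfl | rfl | rfl
  · exact key 0 ⟨_, hd 0⟩
  · exact key 1 ⟨_, hd 1⟩
  · exact key 2 ⟨_, hd 2⟩
  · exact key 3 ⟨_, hd 3⟩
  · exact key 4 ⟨_, hd 4⟩
  · exact key 5 ⟨_, hd 5⟩

/-! ### The Levi factor -/

/-- The Levi factor. -/
noncomputable def Lev : Subgroup E := Subgroup.closure (letterEl '' {l | l ∈ levL})

theorem mem_levL_of_isLev {l : ℕ} (h : isLev l = true) : l ∈ levL := by
  have hl : l < 72 := by
    by_contra hc
    have := Nat.testBit_lt_two_pow (lt_of_lt_of_le levMask_lt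
      (Nat.pow_le_pow_right (by norm_num : 0 < 2) (show 72 ≤ l by omega)))
    rw [isLev, this] at h
    exact Bool.noConfusion h
  exact (isLev_iff ⟨l, hl⟩).1 h

theorem elem_mem_lev {w : List ℕ} (h : ∀ l ∈ w, isLev l = true) : elem w ∈ Lev := by
  refine list_prod_mem fun x hx => ?_
  obtain ⟨l, hl, rfl⟩ := List.mem_map.1 hx
  exact Subgroup.subset_closure ⟨l, mem_levL_of_isLev (h l hl), rfl⟩

theorem dw_mem (a : ℕ) : elem (Dw a) ∈ Lev := by
  refine elem_mem_lev fun l hl => ?_
  simp only [Dw, List.mem_cons, List.not_mem_nil, or_false] at hl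
  have hd : ∀ i, dig a i < 3 := fun i => Nat.mod_lt _ (by norm_num)
  rcases hl with rfl | rfl | rfl | rfl | rfl | rfl
  · exact dw_lev ⟨_, hd 0⟩ 13 (by simp)
  · exact dw_lev ⟨_, hd 1⟩ 14 (by simp)
  · exact dw_lev ⟨_, hd 2⟩ 16 (by simp)
  · exact dw_lev ⟨_, hd 3⟩ 18 (by simp)
  · exact dw_lev ⟨_, hd 4⟩ 19 (by simp)
  · exact dw_lev ⟨_, hd 5⟩ 21 (by simp)

theorem lev_normalises {h : E} (hh : h ∈ Lev) : ∀ r ∈ Rad, h * r * h⁻¹ ∈ Rad := by
  refine Subgroup.closure_induction (fun x hx => ?_) (fun r hr => by simpa using hr)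
    (fun x y _ _ hx hy r hr => ?_) (fun x _ hx => ?_) hh
  · obtain ⟨l, hl, rfl⟩ := hx
    obtain ⟨k, hk, rfl⟩ := List.getElem_of_mem hl
    have hgen : Rad ≤ Rad.comap (MulAut.conj (letterEl levL[k])).toMonoidHom := by
      refine (Subgroup.closure_le _).2 ?_
      rintro _ ⟨i, rfl⟩
      rw [SetLike.mem_coe, Subgroup.mem_comap]
      show letterEl levL[k] * letterEl (genL.getD i.val 0) * (letterEl levL[k])⁻¹ ∈ Rad
      have hlen : 6 * k + i.val < conjL.length := by rw [conj_length]; omega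
      have h := checkFrom_spec conj_ok _ hlen
      rw [Nat.zero_add, conjOK, show (6 * k + i.val) / 6 = k by omega,
        show (6 * k + i.val) % 6 = i.val by omega, Bool.and_eq_true] at h
      have e := elem_eq_of_sameW h.2
      rw [elem_append, elem_cons, elem_singleton, elem_singleton,
        List.getD_eq_getElem _ _ hk] at e
      rw [e, mul_assoc, mul_inv_cancel, mul_one]
      exact nw_mem _
    exact fun r hr => hgen hr
  · have := hx _ (hy r hr)
    simpa [mul_assoc] using this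
  · have key : ∀ n : ℕ, ∀ r ∈ Rad, x ^ n * r * (x ^ n)⁻¹ ∈ Rad := by
      intro n
      induction n with
      | zero => intro r hr; simpa using hr
      | succ n ih => intro r hr; simpa [pow_succ', mul_assoc] using hx _ (ih r hr)
    intro r hr
    rw [inv_eq_pow x]
    exact key _ r hr

/-- Block diagonal elements. -/
def Blk (g : E) : Prop := ∀ i j : I8, i.isLeft ≠ j.isLeft → matE g i j = 0

theorem blk_mul {g h : E} (hg : Blk g) (hh : Blk h) : Blk (g * h) := by
  intro i j hij
  rw [matE_mul, Matrix.mul_apply]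
  refine Finset.sum_eq_zero fun k _ => ?_
  by_cases hk : i.isLeft = k.isLeft
  · rw [hh k j (hk ▸ hij), mul_zero]
  · rw [hg i k hk, zero_mul]

theorem blk_one : Blk 1 := fun i j hij => by
  rw [matE_one, Matrix.one_apply_ne (fun e : i = j => hij (congrArg Sum.isLeft e))]

theorem blk_of_lev {h : E} (hh : h ∈ Lev) : Blk h := by
  refine Subgroup.closure_induction (fun x hx => ?_) blk_one (fun x y _ _ => blk_mul) (fun x _ hx => ?_) hh
  · obtain ⟨l, hl, rfl⟩ := hx
    intro i j hij
    rw [← elem_singleton, ← (wordC_spec [l]).2]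
    have hside : ∀ i j : I8, i.isLeft ≠ j.isLeft →
        (decide (idx i < 4) != decide (idx j < 4)) = true := by decide +kernel
    exact lev_block l hl ⟨idx i, idx_lt i⟩ ⟨idx j, idx_lt j⟩ (hside i j hij)
  · rw [inv_eq_pow x]
    induction orderOf x - 1 with
    | zero => simpa using blk_one
    | succ n ih => rw [pow_succ]; exact blk_mul ih hx

theorem rad_blk {g : E} (hg : g ∈ Rad) (hb : Blk g) : g = 1 := by
  obtain ⟨n, hn, rfl⟩ := exists_nw_of_mem hg
  obtain ⟨hw, hm⟩ := wordC_spec (Nw n)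
  have hz : ∀ k, trMask.testBit k = true →
      (wordC (Nw n)).1.testBit k = false ∧ (wordC (Nw n)).2.testBit k = false := by
    intro k hk
    by_cases h64 : 64 ≤ k
    · exact (hw k).2 h64
    obtain ⟨h1, h2⟩ := trMask_pos ⟨k, by omega⟩ hk
    obtain ⟨i, hi⟩ := idx_surjective ⟨k / 8, by omega⟩
    obtain ⟨j, hj⟩ := idx_surjective ⟨k % 8, Nat.mod_lt _ (by norm_num)⟩
    simp only at h1 h2 hi hj
    have hij : i.isLeft ≠ j.isLeft := by
      have hside : ∀ i j : I8, idx i < 4 → 4 ≤ idx j → i.isLeft ≠ j.isLeft := by decide +kernel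
      exact hside i j (hi ▸ h1) (hj ▸ h2)
    have e := hb i j hij
    rw [← hm, toM, Matrix.of_apply, hi, hj, show 8 * (k / 8) + k % 8 = k by omega, ent] at e
    have := (hw k).1
    revert e this
    cases (wordC (Nw n)).1.testBit k <;> cases (wordC (Nw n)).2.testBit k <;> simp [bitVal]
  have hand : ∀ P : ℕ, (∀ k, trMask.testBit k = true → P.testBit k = false) → P &&& trMask = 0 := by
    intro P hP
    refine Nat.eq_of_testBit_eq fun k => ?_
    rw [Nat.testBit_and, Nat.zero_testBit]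
    cases h : trMask.testBit k
    · simp
    · simp [hP k h]
  have h0 := List.all_eq_true.1 block_ok n (List.mem_range.2 hn)
  rw [blockOK, hand _ (fun k hk => (hz k hk).1), hand _ (fun k hk => (hz k hk).2)] at h0
  have : n = 0 := by simpa using h0
  rw [this, elem_eq_one_of_sameW nw_zero]

/-! ### Injectivity -/

theorem pairwise_of_chainLt : ∀ {l : List ℕ}, chainLt l = true → l.Pairwise (· < ·)
  | [], _ => List.Pairwise.nil
  | [_], _ => List.pairwise_singleton _ _
  | a :: b :: l, h => by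
    rw [chainLt, Bool.and_eq_true, Nat.blt_eq] at h
    have hp := pairwise_of_chainLt h.2
    refine List.pairwise_cons.2 ⟨fun x hx => ?_, hp⟩
    rcases List.mem_cons.1 hx with rfl | hx'
    · exact h.1
    · exact h.1.trans ((List.pairwise_cons.1 hp).1 x hx')

theorem inj_of_sorted {w : ℕ → List ℕ} {s : List ℕ}
    (h : chainLt (s.map fun a => keyC (wordC (w a))) = true)
    (hs : s.length = 729 ∧ s.all (fun a => Nat.blt a 729) = true) {a b : ℕ} (ha : a < 729) (hb : b < 729)
    (e : elem (w a) = elem (w b)) : a = b := by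
  have hk : (s.map fun a => keyC (wordC (w a))).Nodup :=
    (pairwise_of_chainLt h).imp fun h => ne_of_lt h
  have hnd : s.Nodup := List.Nodup.of_map _ hk
  have hcov : ∀ x < 729, x ∈ s := by
    intro x hx
    have hsub : s.toFinset = Finset.range 729 := by
      refine Finset.eq_of_subset_of_card_le (fun y hy => ?_) ?_
      · rw [List.mem_toFinset] at hy
        simpa using List.all_eq_true.1 hs.2 y hy
      · rw [List.toFinset_card_of_nodup hnd, hs.1, Finset.card_range]
    exact List.mem_toFinset.1 (hsub ▸ Finset.mem_range.2 hx)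
  refine List.inj_on_of_nodup_map hk (hcov a ha) (hcov b hb) ?_
  rw [eqC_iff.1 (sameW_iff.2 e)]

/-! ### The Sylow subgroup -/

/-- The subgroup of the positive root elements. -/
noncomputable def P3 : Subgroup E :=
  Subgroup.closure (Set.range fun p : Fin 12 × Fin 3 => letterEl (3 * (12 + p.1.val) + p.2.val))

theorem letter_mem_P3 {r : ℕ} (hr : 12 ≤ r) (hr' : r < 24) {t : ℕ} (ht : t < 3) :
    letterEl (3 * r + t) ∈ P3 :=
  Subgroup.subset_closure ⟨(⟨r - 12, by omega⟩, ⟨t, ht⟩), by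
    show letterEl (3 * (12 + (r - 12)) + t) = _
    rw [Nat.add_sub_cancel' hr]⟩

theorem dw_mem_P3 (a : ℕ) : elem (Dw a) ∈ P3 := by
  refine list_prod_mem fun x hx => ?_
  obtain ⟨l, hl, rfl⟩ := List.mem_map.1 hx
  simp only [Dw, List.mem_cons, List.not_mem_nil, or_false] at hl
  have hd : ∀ i, dig a i < 3 := fun i => Nat.mod_lt _ (by norm_num)
  rcases hl with rfl | rfl | rfl | rfl | rfl | rfl
  · exact letter_mem_P3 (r := 13) (by norm_num) (by norm_num) (hd 0)
  · exact letter_mem_P3 (r := 14) (by norm_num) (by norm_num) (hd 1)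
  · exact letter_mem_P3 (r := 16) (by norm_num) (by norm_num) (hd 2)
  · exact letter_mem_P3 (r := 18) (by norm_num) (by norm_num) (hd 3)
  · exact letter_mem_P3 (r := 19) (by norm_num) (by norm_num) (hd 4)
  · exact letter_mem_P3 (r := 21) (by norm_num) (by norm_num) (hd 5)

theorem nw_mem_P3 (a : ℕ) : elem (Nw a) ∈ P3 := by
  refine list_prod_mem fun x hx => ?_
  obtain ⟨l, hl, rfl⟩ := List.mem_map.1 hx
  simp only [Nw, List.mem_cons, List.not_mem_nil, or_false] at hl
  have hd : ∀ i, dig a i < 3 := fun i => Nat.mod_lt _ (by norm_num)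
  rcases hl with rfl | rfl | rfl | rfl | rfl | rfl
  · exact letter_mem_P3 (r := 12) (by norm_num) (by norm_num) (hd 0)
  · exact letter_mem_P3 (r := 15) (by norm_num) (by norm_num) (hd 1)
  · exact letter_mem_P3 (r := 17) (by norm_num) (by norm_num) (hd 2)
  · exact letter_mem_P3 (r := 20) (by norm_num) (by norm_num) (hd 3)
  · exact letter_mem_P3 (r := 22) (by norm_num) (by norm_num) (hd 4)
  · exact letter_mem_P3 (r := 23) (by norm_num) (by norm_num) (hd 5)

/-- The order `e₀, e₁, e₂, e₃, f₃, f₂, f₁, f₀`. -/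
def flag : I8 ≃ Fin 8 := ((Equiv.refl (Fin 4)).sumCongr Fin.revPerm).trans finSumFinEquiv

theorem isPGroup_P3 : IsPGroup 3 P3 := by
  let ψ : E →* GL (Fin 8) K :=
    (Units.map (Matrix.reindexAlgEquiv K K flag : M8 ≃ₐ[K] Matrix (Fin 8) (Fin 8) K).toMonoidHom).comp
      ((Cfsg.isometryGroup K (Cfsg.quadFormPlus 4 K)).subtype.comp (elGroup 4 K).subtype)
  have hψ : Function.Injective ψ := by
    intro g h e
    refine matE_injective ((Matrix.reindexAlgEquiv K K flag).injective ?_)
    exact congrArg (fun u : GL (Fin 8) K => (u : Matrix (Fin 8) (Fin 8) K)) e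
  have hle : P3 ≤ (Linear.unitriGL 8 K).comap ψ := by
    refine (Subgroup.closure_le _).2 ?_
    rintro _ ⟨⟨r, t⟩, rfl⟩
    rw [SetLike.mem_coe, Subgroup.mem_comap, Linear.mem_unitriGL]
    have hval : ((ψ (letterEl (3 * (12 + r.val) + t.val)) : GL (Fin 8) K) : Matrix (Fin 8) (Fin 8) K)
        = Matrix.reindex flag flag (toM (wordC [3 * (12 + r.val) + t.val])) := by
      rw [(wordC_spec _).2, elem_singleton]; rfl
    rw [hval]
    have hup : ∀ r : Fin 12, ∀ t : Fin 3, ∀ i j : Fin 8, j < i →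
        toM (wordC [3 * (12 + r.val) + t.val]) (flag.symm i) (flag.symm j) = (0 : K) := by decide +kernel
    have hdiag : ∀ r : Fin 12, ∀ t : Fin 3, ∀ i : Fin 8,
        toM (wordC [3 * (12 + r.val) + t.val]) (flag.symm i) (flag.symm i) = (1 : K) := by decide +kernel
    exact ⟨fun i j hij => hup r t i j hij, fun i => hdiag r t i⟩
  exact ((Linear.isPGroup_unitriGL (n := 8) (F := K) 3).comap_of_injective ψ hψ).to_le hle

theorem card_E : Nat.card E = 3 ^ 12 * 18636800 := by
  have h1 := H27.D4.card_group (F := K)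
  have h2 := H27.D4.card_center_elGroup (F := K)
  rw [← Nat.card_congr (H58.OrthoField.elQuot (F := K)).toEquiv, ZMod.card] at h1
  rw [ZMod.card] at h2
  have h3 := Subgroup.card_eq_card_quotient_mul_card_subgroup (Subgroup.center E)
  rw [h2] at h3
  rw [show Nat.gcd 2 (3 - 1) = 2 from rfl] at h1 h3
  norm_num at h1 h3 ⊢
  change 4 * Nat.card (E ⧸ Subgroup.center E) = _ at h1
  omega

/-- A pair of coordinates as a positive element. -/
noncomputable def pairEl (p : Fin 729 × Fin 729) : P3 :=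
  ⟨elem (Dw p.1.val) * elem (Nw p.2.val), mul_mem (dw_mem_P3 _) (nw_mem_P3 _)⟩

theorem pair_injective : Function.Injective pairEl := by
  rintro ⟨a, n⟩ ⟨b, m⟩ e
  rw [pairEl, pairEl, Subtype.mk_eq_mk] at e
  have e' : elem (Dw a.val) * elem (Nw n.val) = elem (Dw b.val) * elem (Nw m.val) := e
  have e1 : (elem (Dw b.val))⁻¹ * elem (Dw a.val) = elem (Nw m.val) * (elem (Nw n.val))⁻¹ := by
    rw [inv_mul_eq_iff_eq_mul, ← mul_assoc, eq_mul_inv_iff_mul_eq]
    exact e'
  have hone : (elem (Dw b.val))⁻¹ * elem (Dw a.val) = 1 :=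
    rad_blk (by rw [e1]; exact Subgroup.mul_mem _ (nw_mem _) (Subgroup.inv_mem _ (nw_mem _)))
      (blk_of_lev (Subgroup.mul_mem _ (Subgroup.inv_mem _ (dw_mem _)) (dw_mem _)))
  have hab : a.val = b.val :=
    inj_of_sorted sortD_ok sortD_mem a.isLt b.isLt (inv_mul_eq_one.1 hone).symm
  have hnm : n.val = m.val := by
    rw [hone, eq_comm, mul_inv_eq_one] at e1
    exact inj_of_sorted sortN_ok sortN_mem n.isLt m.isLt e1.symm
  exact Prod.ext (Fin.ext hab) (Fin.ext hnm)

theorem exp_le_twelve {H : Subgroup E} {k : ℕ} (hk : Nat.card H = 3 ^ k) : k ≤ 12 := by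
  by_contra hc
  have hd : 3 ^ 13 ∣ 3 ^ 12 * 18636800 := by
    rw [← card_E]
    refine (pow_dvd_pow 3 (by omega : 13 ≤ k)).trans ?_
    rw [← hk]
    exact Subgroup.card_subgroup_dvd_card _
  norm_num at hd

theorem exists_conj_mem_P3 {g : E} (hg : g ^ 3 = 1) : ∃ h : E, h * g * h⁻¹ ∈ P3 := by
  have : Fact (Nat.Prime 3) := ⟨Nat.prime_three⟩
  obtain ⟨S, hS⟩ := isPGroup_P3.exists_le_sylow
  have hcard : 729 * 729 ≤ Nat.card P3 := by
    have h := Nat.card_le_card_of_injective _ pair_injective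
    rwa [Nat.card_prod, Nat.card_fin] at h
  obtain ⟨k, hk⟩ := IsPGroup.iff_card.1 S.isPGroup'
  have hk12 : k ≤ 12 := exp_le_twelve hk
  have hSP : (S : Subgroup E) = P3 := by
    refine (Subgroup.eq_of_le_of_card_ge hS ?_).symm
    calc Nat.card (S : Subgroup E) = 3 ^ k := hk
      _ ≤ 3 ^ 12 := Nat.pow_le_pow_right (by norm_num) hk12
      _ = 729 * 729 := by norm_num
      _ ≤ Nat.card P3 := hcard
  have hz : IsPGroup 3 (Subgroup.zpowers g) := by
    obtain ⟨j, -, hj⟩ := (Nat.dvd_prime_pow Nat.prime_three).1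
      (show orderOf g ∣ 3 ^ 1 by simpa using orderOf_dvd_of_pow_eq_one hg)
    exact IsPGroup.of_card (n := j) (by rw [Nat.card_zpowers, hj])
  obtain ⟨S', hS'⟩ := hz.exists_le_sylow
  obtain ⟨h, hh⟩ := MulAction.exists_smul_eq E S' S
  refine ⟨h, ?_⟩
  rw [← hSP, ← hh, Sylow.coe_subgroup_smul]
  exact ⟨g, hS' (Subgroup.mem_zpowers g), rfl⟩

theorem exists_pair {g : E} (hg : g ^ 3 = 1) :
    ∃ a < 729, ∃ n < 729, IsConj g (elem (Dw a) * elem (Nw n)) := by
  obtain ⟨h, hh⟩ := exists_conj_mem_P3 hg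
  have hU : ∀ x ∈ P3, ∃ a < 729, ∃ r ∈ Rad, x = elem (Dw a) * r := by
    intro x hx
    have hcard : Nat.card P3 ≤ Nat.card (Fin 729 × Fin 729) := by
      obtain ⟨k, hk⟩ := IsPGroup.iff_card.1 isPGroup_P3
      have : k ≤ 12 := exp_le_twelve hk
      rw [Nat.card_prod, Nat.card_fin, hk, show 729 * 729 = 3 ^ 12 by norm_num]
      exact Nat.pow_le_pow_right (by norm_num) this
    obtain ⟨⟨a, n⟩, e⟩ := (pair_injective.bijective_of_nat_card_le hcard).2 ⟨x, hx⟩
    exact ⟨a.val, a.isLt, _, nw_mem n.val, (congrArg Subtype.val e).symm⟩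
  obtain ⟨a, ha, r, hr, e⟩ := hU _ hh
  obtain ⟨n, hn, rfl⟩ := exists_nw_of_mem hr
  exact ⟨a, ha, n, hn, isConj_iff.2 ⟨h, e⟩⟩

/-- The check of a candidate, for each class of the Levi part. -/
theorem cand_ok (k : ℕ) (hk : k < 5) (m : ℕ) (hm : m < 729) : ∃ e, candOK k m e = true := by
  interval_cases k
  · exact ⟨_, by simpa using checkFrom_spec cand0_ok m (by rw [cand0_length]; exact hm)⟩
  · exact ⟨_, by simpa using checkFrom_spec cand1_ok m (by rw [cand1_length]; exact hm)⟩
  · exact ⟨_, by simpa using checkFrom_spec cand2_ok m (by rw [cand2_length]; exact hm)⟩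
  · exact ⟨_, by simpa using checkFrom_spec cand3_ok m (by rw [cand3_length]; exact hm)⟩
  · exact ⟨_, by simpa using checkFrom_spec cand4_ok m (by rw [cand4_length]; exact hm)⟩

theorem lev_cube {d r : E} (hd : d ∈ Lev) (hr : r ∈ Rad) (h : (d * r) ^ 3 = 1) : d ^ 3 = 1 := by
  have e : (d * r) ^ 3 = d ^ 3 * ((d⁻¹ * (d⁻¹ * r * d) * d) * (d⁻¹ * r * d) * r) := by
    simp only [pow_three]; group
  have hN : ∀ x ∈ Rad, d⁻¹ * x * d ∈ Rad := fun x hx => by
    simpa using lev_normalises (inv_mem hd) x hx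
  rw [e] at h
  have hd3 : d ^ 3 ∈ Rad := by
    rw [eq_inv_of_mul_eq_one_left h]
    exact inv_mem (mul_mem (mul_mem (hN _ (hN _ hr)) (hN _ hr)) hr)
  exact rad_blk hd3 (blk_of_lev (pow_mem hd 3))

theorem elem_cube (u : List ℕ) : elem (u ++ (u ++ u)) = elem u ^ 3 := by
  rw [elem_append, elem_append, pow_three]

theorem isConj_of_word {w u v : List ℕ} (h : sameW (w ++ u) (v ++ w) = true) :
    IsConj (elem u) (elem v) := by
  refine isConj_iff.2 ⟨elem w, ?_⟩
  rw [← elem_append, elem_eq_of_sameW h, elem_append, mul_assoc, mul_inv_cancel, mul_one]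

theorem pow_of_isConj {x y : E} (h : IsConj x y) (hx : x ^ 3 = 1) : y ^ 3 = 1 := by
  obtain ⟨c, rfl⟩ := isConj_iff.1 h
  rw [conj_pow, hx, mul_one, mul_inv_cancel]

/-- The thirteen representatives. -/
noncomputable def rep (j : Fin 13) : E := elem (repW j)

/-- Every element of order three is conjugate to one of the thirteen. -/
theorem cover {g : E} (h3 : g ^ 3 = 1) (h1 : g ≠ 1) : ∃ j, IsConj g (rep j) := by
  obtain ⟨a, ha, n, -, hc⟩ := exists_pair h3
  have hD : elem (Dw a) ^ 3 = 1 := lev_cube (dw_mem a) (nw_mem n) (pow_of_isConj hc h3)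
  have hok := checkFrom_spec red_ok a (by rw [red_length]; exact ha)
  rw [Nat.zero_add] at hok
  rcases hred : redL.getD a 0 with _ | e
  · rw [hred, redOK] at hok
    refine absurd ?_ (elem_ne_of_sameW (u := Dw a ++ Dw a ++ Dw a) (v := []) (by simpa using hok))
    rw [List.append_assoc, elem_cube, hD, elem_nil]
  rw [hred, redOK, Bool.and_eq_true, List.all_eq_true] at hok
  set w := decW fuel (e / 5)
  have hw : elem w ∈ Lev := elem_mem_lev hok.1
  have hD' : elem w * elem (Dw a) * (elem w)⁻¹ = elem (clW (e % 5)) := by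
    rw [← elem_append, elem_eq_of_sameW hok.2, elem_append, mul_assoc, mul_inv_cancel, mul_one]
  obtain ⟨m, hm, hm'⟩ := exists_nw_of_mem (lev_normalises hw _ (nw_mem n))
  have hc2 : IsConj g (elem (clW (e % 5) ++ Nw m)) := by
    refine hc.trans (isConj_iff.2 ⟨elem w, ?_⟩)
    rw [elem_append, hm', ← hD']
    group
  obtain ⟨x, hx⟩ := cand_ok (e % 5) (Nat.mod_lt _ (by norm_num)) m hm
  rcases x with _ | _ | x
  · rw [candOK, List.append_assoc (clW (e % 5) ++ Nw m), Bool.not_eq_true'] at hx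
    refine absurd ?_ (elem_ne_of_sameW hx)
    rw [elem_cube, pow_of_isConj hc2 h3, elem_nil]
  · exfalso
    have := elem_eq_one_of_sameW (show sameW (clW (e % 5) ++ Nw m) [] = true from hx)
    rw [this] at hc2
    exact h1 (isConj_one_left.1 hc2)
  · exact ⟨repIdx x, hc2.trans (isConj_of_word hx)⟩

end Cfsg.Agent.Orthogonal.O83
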