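import Mathlib
import Cfsg.Agent.Orthogonal.O83.Data

/-!
# An invariant of elements of `Ω⁺(8,3)`

For an isometry `g` the number of vectors `v` with `Q(gv - v) = 2` is unchanged by conjugation and
inversion; it is counted on the thirteen representatives by the kernel.
-/

set_option autoImplicit false

namespace Cfsg.Agent.Orthogonal.O83

open Matrix
open Cfsg.Agent.H27.D4 (I8)

/-- The quadratic form. -/
abbrev Q8 : (I8 → K) → K := Cfsg.quadFormPlus 4 K

/-- The invariant. -/
noncomputable def invV (g : E) : ℕ := Nat.card {v : I8 → K // Q8 (matE g *ᵥ v - v) = 2}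

theorem quad_mulVec (h : E) (v : I8 → K) : Q8 (matE h *ᵥ v) = Q8 v := h.1.2 v v

theorem quad_neg (v : I8 → K) : Q8 (-v) = Q8 v := by
  simp [Q8, Cfsg.quadFormPlus]

/-- Multiplication by an element as a bijection of the vectors. -/
def vecEquiv (h : E) : (I8 → K) ≃ (I8 → K) where
  toFun v := matE h *ᵥ v
  invFun v := matE h⁻¹ *ᵥ v
  left_inv v := by
    show matE h⁻¹ *ᵥ (matE h *ᵥ v) = v
    rw [Matrix.mulVec_mulVec, ← matE_mul, inv_mul_cancel, matE_one, Matrix.one_mulVec]
  right_inv v := by
    show matE h *ᵥ (matE h⁻¹ *ᵥ v) = v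
    rw [Matrix.mulVec_mulVec, ← matE_mul, mul_inv_cancel, matE_one, Matrix.one_mulVec]

theorem invV_conj (g h : E) : invV (h * g * h⁻¹) = invV g := by
  refine (Nat.card_congr ((vecEquiv h).subtypeEquiv fun v => ?_)).symm
  show Q8 (matE g *ᵥ v - v) = 2 ↔ Q8 (matE (h * g * h⁻¹) *ᵥ (matE h *ᵥ v) - matE h *ᵥ v) = 2
  rw [Matrix.mulVec_mulVec, ← matE_mul, inv_mul_cancel_right, matE_mul, ← Matrix.mulVec_mulVec,
    ← Matrix.mulVec_sub, quad_mulVec]

theorem invV_of_isConj {g h : E} (e : IsConj g h) : invV g = invV h := by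
  obtain ⟨c, rfl⟩ := isConj_iff.1 e
  exact (invV_conj g c).symm

theorem invV_inv (g : E) : invV g⁻¹ = invV g := by
  refine (Nat.card_congr ((vecEquiv g).subtypeEquiv fun v => ?_)).symm
  show Q8 (matE g *ᵥ v - v) = 2 ↔ Q8 (matE g⁻¹ *ᵥ (matE g *ᵥ v) - matE g *ᵥ v) = 2
  rw [Matrix.mulVec_mulVec, ← matE_mul, inv_mul_cancel, matE_one, Matrix.one_mulVec,
    ← neg_sub v (matE g *ᵥ v), quad_neg]

/-! ### Counting -/

/-- A digit of a vector code. -/
def dg (w : Code) (i : ℕ) : ℕ := if w.1.testBit i then 1 else if w.2.testBit i then 2 else 0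

/-- The value of the form on a vector code. -/
def qC (w : Code) : ℕ :=
  (dg w 0 * dg w 4 + dg w 1 * dg w 5 + dg w 2 * dg w 6 + dg w 3 * dg w 7) % 3

/-- The vector of a code. -/
def vecC (w : Code) : I8 → K := fun i => ent w (idx i)

theorem qC_spec {w : Code} (hw : Wf w) : Nat.beq (qC w) 2 = true ↔ Q8 (vecC w) = 2 := by
  have hd : ∀ i, ((dg w i : ℕ) : K) = ent w i := by
    intro i
    have := (hw i).1
    rw [dg, ent]
    revert this
    cases w.1.testBit i <;> cases w.2.testBit i <;> simp [bitVal] <;> decide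
  have e : Q8 (vecC w) = ((qC w : ℕ) : K) := by
    rw [qC, ZMod.natCast_mod]
    push_cast
    simp only [hd, Q8, Cfsg.quadFormPlus, Fin.sum_univ_four]
    rfl
  rw [e, Nat.beq_eq]
  refine ⟨fun h => by rw [h]; rfl, fun h => ?_⟩
  have hlt : qC w < 3 := Nat.mod_lt _ (by norm_num)
  have := congrArg ZMod.val h
  rwa [ZMod.val_natCast_of_lt hlt] at this

/-- Application to an argument which the kernel evaluates first. -/
def evalN {α : Type} (n : ℕ) (k : ℕ → α) : α :=
  match n with
  | 0 => k 0
  | m + 1 => k (m + 1)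

theorem evalN_eq {α : Type} (n : ℕ) (k : ℕ → α) : evalN n k = k n := by cases n <;> rfl

/-- Application to a code which the kernel evaluates first. -/
def evalC {α : Type} (w : Code) (k : Code → α) : α := evalN w.1 fun p => evalN w.2 fun q => k (p, q)

theorem evalC_eq {α : Type} (w : Code) (k : Code → α) : evalC w k = k w := by
  simp [evalC, evalN_eq]

/-- The number of solutions on a coset of the span of some columns. -/
def cnt : List Code → Code → ℕ
  | [], w => if Nat.beq (qC w) 2 then 1 else 0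
  | c :: cs, w => evalC c fun c =>
      evalC w (cnt cs) + evalC (cadd w c) (cnt cs) + evalC (cadd w (cneg c)) (cnt cs)

theorem vecC_cadd {x y : Code} (hx : Wf x) (hy : Wf y) : vecC (cadd x y) = vecC x + vecC y :=
  funext fun i => ent_cadd hx hy (idx i)

theorem vecC_cneg (x : Code) : vecC (cneg x) = -vecC x := funext fun i => ent_cneg x (idx i)

theorem cnt_eq : ∀ (cs : List Code), (∀ c ∈ cs, Wf c) → ∀ w, Wf w →
    cnt cs w = ∑ u : Fin cs.length → K,
      if Q8 (vecC w + ∑ k, u k • vecC (cs.get k)) = 2 then 1 else 0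
  | [], _, w, hw => by
    simp only [cnt, qC_spec hw, List.length_nil, Finset.univ_eq_empty, Finset.sum_empty, add_zero,
      Finset.sum_const, Finset.card_univ, Fintype.card_unique, one_smul]
  | c :: cs, hcs, w, hw => by
    have hc := hcs c (List.mem_cons_self ..)
    have ih := cnt_eq cs fun d hd => hcs d (List.mem_cons_of_mem _ hd)
    rw [cnt, evalC_eq, evalC_eq, evalC_eq, evalC_eq, ih w hw, ih _ (wf_cadd hw hc), ih _ (wf_cadd hw (wf_cneg hc)), vecC_cadd hw hc,
      vecC_cadd hw (wf_cneg hc), vecC_cneg]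
    simp only [List.length_cons]
    rw [← (Fin.consEquiv fun _ : Fin (cs.length + 1) => K).sum_comp, Fintype.sum_prod_type,
      show (Finset.univ : Finset K) = {0, 1, 2} from by decide,
      Finset.sum_insert (by decide), Finset.sum_insert (by decide), Finset.sum_singleton]
    simp only [Fin.consEquiv_apply, Fin.sum_univ_succ (n := cs.length), Fin.cons_zero, Fin.cons_succ,
      List.get_eq_getElem, Fin.val_zero, List.getElem_cons_zero, Fin.val_succ, List.getElem_cons_succ,
      zero_smul, zero_add, one_smul, show (2 : K) = -1 from rfl, neg_smul, ← add_assoc]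

/-- A column of the difference of a code and the identity. -/
def colC (c : Code) (k : ℕ) : Code :=
  cadd ((List.range 8).foldl (fun a i => a ||| (((c.1 >>> (8 * i + k)) &&& 1) <<< i)) 0,
    (List.range 8).foldl (fun a i => a ||| (((c.2 >>> (8 * i + k)) &&& 1) <<< i)) 0) (0, 2 ^ k)

/-- The columns. -/
def cols (c : Code) : List Code := (List.range 8).map (colC c)

theorem cols_wf : ∀ j : Fin 13, ∀ k : Fin 8, (colC (wordC (repW j)) k.val).1 < 2 ^ 8 ∧
    (colC (wordC (repW j)) k.val).2 < 2 ^ 8 ∧
    (colC (wordC (repW j)) k.val).1 &&& (colC (wordC (repW j)) k.val).2 = 0 := by decide +kernel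

theorem cols_val : ∀ j : Fin 13, ∀ k i : Fin 8, ent (colC (wordC (repW j)) k.val) i.val =
    ent (wordC (repW j)) (8 * i.val + k.val) - (if i = k then 1 else 0 : K) := by decide +kernel

/-- The values of the invariant at the representatives. -/
def invT : Fin 13 → ℕ := ![0, 0, 0, 0, 4374, 0, 0, 4374, 0, 0, 4374, 1458, 2916]

theorem cnt_ok : ∀ j : Fin 13, cnt (cols (wordC (repW j))) (0, 0) = invT j := by decide +kernel

theorem invV_rep (j : Fin 13) : invV (elem (repW j)) = invT j := by
  classical
  obtain ⟨-, hm⟩ := wordC_spec (repW j)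
  have hlen : (cols (wordC (repW j))).length = 8 := by simp [cols]
  have hwf : ∀ c ∈ cols (wordC (repW j)), Wf c := by
    intro c hc
    obtain ⟨k, hk, rfl⟩ := List.mem_map.1 hc
    obtain ⟨h1, h2, h3⟩ := cols_wf j ⟨k, List.mem_range.1 hk⟩
    intro i
    refine ⟨?_, fun hi => ⟨?_, ?_⟩⟩
    · have := congrArg (fun x => x.testBit i) h3
      simpa [or_iff_not_imp_left] using this
    · exact Nat.testBit_lt_two_pow (lt_of_lt_of_le h1 (Nat.pow_le_pow_right (by norm_num) (by omega)))
    · exact Nat.testBit_lt_two_pow (lt_of_lt_of_le h2 (Nat.pow_le_pow_right (by norm_num) (by omega)))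
  have h0 : Wf (0, 0) := fun k =>
    ⟨Or.inl (Nat.zero_testBit k), fun _ => ⟨Nat.zero_testBit k, Nat.zero_testBit k⟩⟩
  rw [← cnt_ok, cnt_eq _ hwf _ h0, invV, Nat.card_eq_fintype_card, Fintype.card_subtype,
    Finset.card_filter]
  refine Fintype.sum_equiv
    ((Equiv.arrowCongr finSumFinEquiv (Equiv.refl K)).trans
      (Equiv.arrowCongr (finCongr hlen.symm) (Equiv.refl K))) _ _ fun v => ?_
  have hv : ∀ a : I8, (((Equiv.arrowCongr finSumFinEquiv (Equiv.refl K)).trans
      (Equiv.arrowCongr (finCongr hlen.symm) (Equiv.refl K))) v)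
        ((finCongr hlen).symm (finSumFinEquiv a)) = v a := fun a =>
    congrArg v (finSumFinEquiv.symm_apply_apply a)
  generalize (((Equiv.arrowCongr finSumFinEquiv (Equiv.refl K)).trans
      (Equiv.arrowCongr (finCongr hlen.symm) (Equiv.refl K))) v) = u at hv ⊢
  have e : matE (elem (repW j)) *ᵥ v - v = vecC (0, 0) + ∑ k,
      u k • vecC ((cols (wordC (repW j))).get k) := by
    funext i
    rw [← hm, Pi.sub_apply, Pi.add_apply, Finset.sum_apply,
      ← (finCongr hlen).symm.sum_comp, ← (finSumFinEquiv : I8 ≃ Fin 8).sum_comp]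
    have hcol : ∀ a : I8, vecC ((cols (wordC (repW j))).get ((finCongr hlen).symm (finSumFinEquiv a))) i
        = toM (wordC (repW j)) i a - (if i = a then 1 else 0 : K) := by
      intro a
      have hidx : ∀ a : I8, (finSumFinEquiv a).val = idx a := by decide +kernel
      have hiff : (⟨idx i, idx_lt i⟩ : Fin 8) = finSumFinEquiv a ↔ i = a :=
        ⟨fun h => idx_injective _ _ ((congrArg Fin.val h).trans (hidx a)),
          fun h => Fin.ext (h ▸ (hidx i).symm)⟩
      have hget : (cols (wordC (repW j))).get ((finCongr hlen).symm (finSumFinEquiv a))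
          = colC (wordC (repW j)) (finSumFinEquiv a).val := by
        simp [cols]
        rfl
      have := cols_val j (finSumFinEquiv a) ⟨idx i, idx_lt i⟩
      rw [hget]
      simp only [hiff, hidx a] at this ⊢
      exact this
    simp only [Pi.smul_apply, smul_eq_mul, hv, hcol]
    simp [Matrix.mulVec, dotProduct, vecC, ent, bitVal, mul_sub, Finset.sum_sub_distrib, mul_comm]
  rw [e]

end Cfsg.Agent.Orthogonal.O83
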