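import Mathlib
import Cfsg.Agent.Orthogonal.O83.Inv

/-!
# The action of outer automorphisms on thirteen points

The twenty-four permutations induced on the classes of elements of order three of `PΩ⁺(8,3)`, and the
orbits of the subgroups of them that are isomorphic to the symmetric group of degree three.
-/

set_option autoImplicit false

namespace Cfsg.Agent.Orthogonal.O83

/-- The four generators. -/
def genP : Fin 4 → Fin 13 → Fin 13 := ![permTau, permRho, permS, permMu]

/-- A product of generators. -/
def compP : List (Fin 4) → Fin 13 → Fin 13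
  | [] => id
  | a :: w => genP a ∘ compP w

/-- Words for the twenty-four permutations. -/
def wordsP : List (List (Fin 4)) :=
  [[], [0], [1], [2], [3], [0, 0], [1, 0], [2, 0], [3, 0], [0, 1], [2, 1], [3, 1], [0, 2], [1, 2], [3, 2], [2, 0, 0], [3, 0, 0], [2, 1, 0], [3, 1, 0], [0, 2, 0], [1, 2, 0], [2, 0, 1], [3, 0, 1], [0, 2, 1]]

/-- The twenty-four permutations. -/
def perms24 : List (Fin 13 → Fin 13) := wordsP.map compP

/-- Equality of self-maps of the points, as a Boolean. -/
def eqF (f g : Fin 13 → Fin 13) : Bool := (List.finRange 13).all fun i => f i == g i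

theorem eqF_iff {f g : Fin 13 → Fin 13} : eqF f g = true ↔ f = g := by
  simp [eqF, funext_iff]

/-- Distinctness as a Boolean. -/
def nodupB : List (Fin 13 → Fin 13) → Bool
  | [] => true
  | f :: l => l.all (fun g => !eqF f g) && nodupB l

theorem nodup_of_nodupB : ∀ {l : List (Fin 13 → Fin 13)}, nodupB l = true → l.Nodup
  | [], _ => List.nodup_nil
  | f :: l, h => by
    rw [nodupB, Bool.and_eq_true] at h
    refine List.nodup_cons.2 ⟨fun hf => ?_, nodup_of_nodupB h.2⟩
    have := List.all_eq_true.1 h.1 f hf
    simp [eqF_iff.2 rfl] at this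

theorem perms24_nodupB : nodupB perms24 = true := by decide +kernel

theorem perms24_nodup : perms24.Nodup := nodup_of_nodupB perms24_nodupB

/-- Separation of the points by the invariant, as a Boolean. -/
def sepB : Bool :=
  (List.finRange 13).all fun i => (List.finRange 13).all fun k =>
    (i == k) || perms24.any fun p => !(invT (p i) == invT (p k))

theorem sepB_ok : sepB = true := by decide +kernel

theorem separated (i k : Fin 13) (h : ∀ p ∈ perms24, invT (p i) = invT (p k)) : i = k := by
  have e := List.all_eq_true.1 (List.all_eq_true.1 sepB_ok i (List.mem_finRange i)) k (List.mem_finRange k)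
  rw [Bool.or_eq_true] at e
  rcases e with e | e
  · exact beq_iff_eq.1 e
  · obtain ⟨p, hp, hne⟩ := List.any_eq_true.1 e
    simp [h p hp] at hne

/-- The six products of two permutations. -/
def six (t j : Fin 13 → Fin 13) : List (Fin 13 → Fin 13) := [id, t, t ∘ t, j, j ∘ t, j ∘ t ∘ t]

/-- A least point of an orbit, as a Boolean. -/
def minB (S : List (Fin 13 → Fin 13)) (i : Fin 13) : Bool := S.all fun s => decide (i ≤ s i)

/-- The check of the seven orbits of a pair. -/
def sevenB (t j : Fin 13 → Fin 13) : Bool :=
  !(eqF (t ∘ t ∘ t) id && eqF (j ∘ j) id && eqF (j ∘ t ∘ j) (t ∘ t) && !eqF t id && !eqF j id) ||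
    (((List.finRange 13).filter (minB (six t j))).length == 7 &&
      (List.finRange 13).all fun i => (six t j).any fun s => minB (six t j) (s i))

theorem sevenB_ok : (perms24.all fun t => perms24.all fun j => sevenB t j) = true := by decide +kernel

theorem seven {t j : Fin 13 → Fin 13} (ht : t ∈ perms24) (hj : j ∈ perms24) (h1 : t ∘ t ∘ t = id)
    (h2 : j ∘ j = id) (h3 : j ∘ t ∘ j = t ∘ t) (h4 : t ≠ id) (h5 : j ≠ id) :
    ((List.finRange 13).filter (minB (six t j))).length = 7 ∧
      ∀ i, ∃ s ∈ six t j, minB (six t j) (s i) = true := by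
  have e := List.all_eq_true.1 (List.all_eq_true.1 sevenB_ok t ht) j hj
  have hf : ∀ {f g : Fin 13 → Fin 13}, f ≠ g → eqF f g = false := fun h =>
    Bool.eq_false_iff.2 fun e => h (eqF_iff.1 e)
  rw [sevenB, eqF_iff.2 h1, eqF_iff.2 h2, eqF_iff.2 h3, hf h4, hf h5] at e
  simp only [Bool.not_false, Bool.and_self, Bool.not_true, Bool.false_or, Bool.and_eq_true,
    beq_iff_eq, List.all_eq_true, List.mem_finRange, true_implies, List.any_eq_true] at e
  exact e

end Cfsg.Agent.Orthogonal.O83
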