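import Mathlib
import Cfsg.Agent.Orthogonal.O83.Cover
import Cfsg.Agent.Orthogonal.O83.Perms
import Cfsg.Agent.Orthogonal.AutOutPlusAll
import Cfsg.Agent.H37.Sym.D4a

/-!
# The automorphisms of `PΩ⁺(8,3)` on its classes of elements of order three

There are thirteen classes of subgroups of order three, and the twenty-four outer automorphisms act
on them by twenty-four different permutations.
-/

set_option autoImplicit false

namespace Cfsg.Agent.Orthogonal.O83

open Cfsg.Agent.H27.SplitOrtho (elGroup)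
open Cfsg.Agent.H58.OrthoField (elToOmega d4Iso d4Iso_root diagSim diagVal simAut_root)
open Cfsg.Agent.H58.OrthoAut (simAut)

/-- The group `PΩ⁺(8,3)`. -/
abbrev P := Cfsg.POmega K ⇑(formPlus K 4)

/-- The projection. -/
noncomputable def qP : E →* P :=
  (QuotientGroup.mk' (Subgroup.center (Cfsg.Omega K ⇑(formPlus K 4)))).comp
    (elToOmega (F := K)).toMonoidHom

theorem qP_surjective : Function.Surjective qP :=
  (QuotientGroup.mk'_surjective _).comp (MulEquiv.surjective _)

theorem sq_of_qP_eq_one {z : E} (h : qP z = 1) : z ^ 2 = 1 := by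
  have hz : z ∈ Subgroup.center E := by
    have h' := (QuotientGroup.eq_one_iff _).1 h
    refine Subgroup.mem_center_iff.2 fun w => (elToOmega (F := K)).injective ?_
    rw [map_mul, map_mul]
    exact Subgroup.mem_center_iff.1 h' _
  have hcard : Nat.card (Subgroup.center E) = 2 := by
    rw [H27.D4.card_center_elGroup, ZMod.card]; rfl
  have e : (⟨z, hz⟩ : Subgroup.center E) ^ 2 = 1 := hcard ▸ pow_card_eq_one'
  exact congrArg Subtype.val e

theorem rep_cube (j : Fin 13) : rep j ^ 3 = 1 := by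
  have h : ∀ j : Fin 13, sameW (repW j ++ (repW j ++ repW j)) [] = true := by decide +kernel
  rw [rep, ← elem_cube]
  exact elem_eq_one_of_sameW (h j)

theorem rep_ne_one (j : Fin 13) : rep j ≠ 1 := by
  have h : ∀ j : Fin 13, sameW (repW j) [] = false := by decide +kernel
  rw [rep, ← elem_nil]
  exact elem_ne_of_sameW (h j)

/-- An element with cube one in the kernel of the projection is trivial. -/
theorem eq_one_of_qP {z : E} (h3 : z ^ 3 = 1) (h : qP z = 1) : z = 1 := by
  have h2 := sq_of_qP_eq_one h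
  rwa [pow_succ, h2, one_mul] at h3

/-- The thirteen points. -/
noncomputable def y (j : Fin 13) : P := qP (rep j)

theorem y_cube (j : Fin 13) : y j ^ 3 = 1 := by rw [y, ← map_pow, rep_cube, map_one]

theorem y_ne_one (j : Fin 13) : y j ≠ 1 := fun h => rep_ne_one j (eq_one_of_qP (rep_cube j) h)

/-- Elements generating conjugate cyclic groups of order three. -/
def Rel (x x' : P) : Prop := ∃ c : P, c * x * c⁻¹ = x' ∨ c * x * c⁻¹ = x'⁻¹

theorem rel_refl (x : P) : Rel x x := ⟨1, Or.inl (by simp)⟩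

theorem rel_symm {x x' : P} (h : Rel x x') : Rel x' x := by
  obtain ⟨c, h | h⟩ := h
  · exact ⟨c⁻¹, Or.inl (by rw [← h]; group)⟩
  · have h' : x' = (c * x * c⁻¹)⁻¹ := by rw [h, inv_inv]
    exact ⟨c⁻¹, Or.inr (by rw [h']; group)⟩

theorem rel_trans {x x' x'' : P} (h : Rel x x') (h' : Rel x' x'') : Rel x x'' := by
  obtain ⟨c, hc⟩ := h
  obtain ⟨d, hd⟩ := h'
  refine ⟨d * c, ?_⟩
  have e : d * c * x * (d * c)⁻¹ = d * (c * x * c⁻¹) * d⁻¹ := by group
  rw [e]
  rcases hc with hc | hc <;> rw [hc]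
  · exact hd
  · rw [← conj_inv]
    rcases hd with hd | hd <;> rw [hd]
    · exact Or.inr rfl
    · exact Or.inl (inv_inv _)

theorem rel_map (α : MulAut P) {x x' : P} (h : Rel x x') : Rel (α x) (α x') := by
  obtain ⟨c, h⟩ := h
  refine ⟨α c, ?_⟩
  rw [← map_inv α c, ← map_mul, ← map_mul]
  rcases h with h | h <;> rw [h]
  · exact Or.inl rfl
  · exact Or.inr (map_inv α x')

theorem rel_invT {i k : Fin 13} (h : Rel (y i) (y k)) : invT i = invT k := by
  obtain ⟨c, hc⟩ := h
  obtain ⟨C, rfl⟩ := qP_surjective c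
  have key : ∀ e : E, e ^ 3 = 1 → qP C * y i * (qP C)⁻¹ = qP e → C * rep i * C⁻¹ = e := by
    intro e he3 he
    set d := C * rep i * C⁻¹
    have hd3 : d ^ 3 = 1 := by rw [conj_pow, rep_cube, mul_one, mul_inv_cancel]
    have hq : qP (e⁻¹ * d) = 1 := by
      rw [map_mul, map_inv, map_mul, map_mul, map_inv, ← y, he, inv_mul_cancel]
    have hcomm : Commute e⁻¹ d := by
      have h2 := sq_of_qP_eq_one hq
      have hz : ∀ w : E, Commute (e⁻¹ * d) w := central_of_qP hq
      have := hz e⁻¹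
      show e⁻¹ * d = d * e⁻¹
      have h' : e⁻¹ * (e⁻¹ * d) = e⁻¹ * (d * e⁻¹) := by rw [← this.eq, mul_assoc]
      exact mul_left_cancel h'
    have h3 : (e⁻¹ * d) ^ 3 = 1 := by rw [hcomm.mul_pow, inv_pow, he3, hd3, inv_one, one_mul]
    exact (inv_mul_eq_one.1 (eq_one_of_qP h3 hq)).symm
  rw [← invV_rep, ← invV_rep, ← rep, ← rep]
  rcases hc with hc | hc
  · rw [← key (rep k) (rep_cube k) hc, invV_conj]
  · rw [← invV_inv (rep k),
      ← key (rep k)⁻¹ (by rw [inv_pow, rep_cube, inv_one]) (by rw [hc, map_inv]; rfl), invV_conj]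
where
  central_of_qP {z : E} (h : qP z = 1) (w : E) : Commute z w := by
    have h' := (QuotientGroup.eq_one_iff _).1 h
    refine (elToOmega (F := K)).injective ?_
    rw [map_mul, map_mul]
    exact (Subgroup.mem_center_iff.1 h' _).symm

/-- Every element of order three is in one of the thirteen classes. -/
theorem coverP {x : P} (h3 : x ^ 3 = 1) (h1 : x ≠ 1) : ∃ j, Rel x (y j) := by
  obtain ⟨g, rfl⟩ := qP_surjective x
  have hg3 : qP (g ^ 3) = 1 := by rw [map_pow]; exact h3
  have h6 := sq_of_qP_eq_one hg3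
  rw [← pow_mul] at h6
  have e4 : qP (g ^ 4) = qP g := by rw [pow_succ, map_mul, hg3, one_mul]
  obtain ⟨j, hj⟩ := cover (g := g ^ 4) (by rw [← pow_mul, show 4 * 3 = 3 * 2 * 2 from rfl, pow_mul, h6, one_pow])
    (fun e => h1 (by rw [← e4, e, map_one]))
  obtain ⟨c, hc⟩ := isConj_iff.1 hj
  refine ⟨j, qP c, Or.inl ?_⟩
  rw [← e4, ← map_inv, ← map_mul, ← map_mul, hc]
  rfl

/-- An automorphism inducing a map of the thirteen classes. -/
def Act (α : MulAut P) (σ : Fin 13 → Fin 13) : Prop := ∀ i, Rel (α (y i)) (y (σ i))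

theorem act_one : Act 1 id := fun i => rel_refl (y i)

theorem act_mul {α β : MulAut P} {σ τ : Fin 13 → Fin 13} (h : Act α σ) (h' : Act β τ) :
    Act (α * β) (σ ∘ τ) := fun i => rel_trans (rel_map α (h' i)) (h (τ i))

/-! ### The four generators -/

/-- A letter moved by a signed permutation of the roots. -/
def mapL (p e : List ℕ) (l : ℕ) : ℕ := 3 * p.getD (l / 3 % 24) 0 + l % 3 * e.getD (l / 3 % 24) 0 % 3

theorem act_of_letters {α : MulAut P} {p e : List ℕ} {σ : Fin 13 → Fin 13} {w : Fin 13 → List ℕ}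
    (hα : ∀ l, α (qP (letterEl l)) = qP (letterEl (mapL p e l)))
    (hw : ∀ i, sameW (w i ++ (repW i).map (mapL p e)) (repW (σ i) ++ w i) = true) : Act α σ := by
  intro i
  have hword : ∀ u : List ℕ, α (qP (elem u)) = qP (elem (u.map (mapL p e))) := by
    intro u
    induction u with
    | nil => rw [List.map_nil, elem_nil, map_one, map_one]
    | cons l u ih => rw [List.map_cons, elem_cons, elem_cons, map_mul, map_mul, map_mul, hα, ih]
  obtain ⟨c, hc⟩ := isConj_iff.1 (isConj_of_word (hw i))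
  refine ⟨qP c, Or.inl ?_⟩
  rw [y, rep, hword, ← map_inv, ← map_mul, ← map_mul, hc]
  rfl

theorem qP_letter (S : H56.ChevAut.Setup Cfsg.Lie.chevD4 K) (r : Fin 24) (t : K) :
    d4Iso (H37.RootSys.xG S.Q.K K r.val t) = qP (H27.D4.xe r t) := d4Iso_root S r t

theorem exists_sym {D : Cfsg.Lie.ChevalleyDatum} {Y : Type} [Group Y] (ι : ↥(D.group K) ≃* Y)
    (S : H56.ChevAut.Setup D K) {T : H37.Sym.Data} (hT : H37.Sym.Good T D) :
    ∃ α : MulAut Y, ∀ r < D.nroots, ∀ t : K, α (ι (H37.RootSys.xG S.Q.K K r t)) =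
      ι (H37.RootSys.xG S.Q.K K (T.p r) ((T.sg r : K) * t)) := by
  let γ : MulAut ↥(D.group K) := hT.groupEquiv S.Q.ord K
  refine ⟨MulAut.congr ι γ, fun r hr t => ?_⟩
  show ι (γ (ι.symm (ι (H37.RootSys.xG S.Q.K K r t)))) = _
  rw [MulEquiv.symm_apply_apply]
  exact congrArg ι (Subtype.ext (Units.ext (hT.groupEquiv_x S.Q.ord (H37.RootSys.xG S.Q.K K r t) hr t rfl)))

theorem letter_mapL {p e : List ℕ} {l : ℕ} {r : Fin 24} {x : K} (h1 : p.getD (lR l).val 0 = r.val)
    (h3 : x = ((e.getD (lR l).val 0 : ℕ) : K)) :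
    H27.D4.xe r (x * ((l % 3 : ℕ) : K)) = letterEl (mapL p e l) := by
  have hm : mapL p e l / 3 = r.val := by
    rw [mapL, show l / 3 % 24 = (lR l).val from rfl, h1]; omega
  have hm' : mapL p e l % 3 = l % 3 * e.getD (lR l).val 0 % 3 := by
    rw [mapL, show l / 3 % 24 = (lR l).val from rfl]; omega
  rw [letterEl, h3, hm']
  simp only [ZMod.natCast_mod, Nat.cast_mul, mul_comm]
  congr 1
  exact Fin.ext (by show _ = mapL p e l / 3 % 24; rw [hm, Nat.mod_eq_of_lt r.isLt])

theorem sym_letters (S : H56.ChevAut.Setup Cfsg.Lie.chevD4 K) {T : H37.Sym.Data}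
    (hT : H37.Sym.Good T Cfsg.Lie.chevD4) {p e : List ℕ}
    (hp : ∀ r : Fin 24, T.p r.val = p.getD r.val 0 ∧ p.getD r.val 0 < 24 ∧
      ((T.sg r.val : ℤ) : K) = ((e.getD r.val 0 : ℕ) : K)) :
    ∃ α : MulAut P, ∀ l, α (qP (letterEl l)) = qP (letterEl (mapL p e l)) := by
  obtain ⟨α, hα⟩ := exists_sym (d4Iso (F := K)) S hT
  refine ⟨α, fun l => ?_⟩
  obtain ⟨h1, h2, h3⟩ := hp (lR l)
  have hx := hα (lR l).val (lR l).isLt ((l % 3 : ℕ) : K)
  rw [h1] at hx
  refine (congrArg α (qP_letter S (lR l) _).symm).trans (hx.trans ?_)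
  refine (qP_letter S (⟨p.getD (lR l).val 0, h2⟩ : Fin 24) _).trans ?_
  exact congrArg qP (letter_mapL rfl h3)

theorem sim_letters (S : H56.ChevAut.Setup Cfsg.Lie.chevD4 K) {a b : Fin 4 → Kˣ} {μ : Kˣ}
    (h : ∀ i, a i * b i = μ) {p e : List ℕ}
    (hp : ∀ r : Fin 24, p.getD r.val 0 = r.val ∧
      ((diagVal a b μ r : Kˣ) : K) = ((e.getD r.val 0 : ℕ) : K)) (l : ℕ) :
    simAut (formPlus K 4) (diagSim h) (qP (letterEl l)) = qP (letterEl (mapL p e l)) := by
  obtain ⟨h1, h2⟩ := hp (lR l)
  rw [letterEl, ← qP_letter S]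
  refine (simAut_root S h (lR l) _).trans ?_
  rw [qP_letter S]
  exact congrArg qP (letter_mapL h1 h2)

theorem generators_act (a : Fin 4) : ∃ α, Act α (genP a) := by
  obtain ⟨S⟩ := H56.ChevAut.exists_setup (D := Cfsg.Lie.chevD4) (by simp) K
  fin_cases a
  · obtain ⟨α, hα⟩ := sym_letters S H37.Sym.goodD4a (p := pTau) (e := eTau) (by decide +kernel)
    exact ⟨α, act_of_letters (w := wTau) (σ := permTau) hα (by decide +kernel)⟩
  · obtain ⟨α, hα⟩ := sym_letters S H56.ChevAut.goodD4c (p := pRho) (e := eRho) (by decide +kernel)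
    exact ⟨α, act_of_letters (w := wRho) (σ := permRho) hα (by decide +kernel)⟩
  · exact ⟨_, act_of_letters (w := wS) (σ := permS)
      (sim_letters S (a := ![-1, 1, 1, 1]) (b := ![-1, 1, 1, 1]) (μ := 1) (by decide +kernel)
        (p := pS) (e := eS) (by decide +kernel)) (by decide +kernel)⟩
  · exact ⟨_, act_of_letters (w := wMu) (σ := permMu)
      (sim_letters S (a := fun _ => 1) (b := fun _ => -1) (μ := -1) (by decide +kernel)
        (p := pMu) (e := eMu) (by decide +kernel)) (by decide +kernel)⟩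

theorem compP_act : ∀ w : List (Fin 4), ∃ α, Act α (compP w)
  | [] => ⟨1, act_one⟩
  | a :: w => by
    obtain ⟨α, hα⟩ := generators_act a
    obtain ⟨β, hβ⟩ := compP_act w
    exact ⟨α * β, act_mul hα hβ⟩

/-- The thirteen classes are distinct. -/
theorem y_sep {i k : Fin 13} (h : Rel (y i) (y k)) : i = k := by
  refine separated i k fun p hp => rel_invT ?_
  obtain ⟨w, -, rfl⟩ := List.mem_map.1 hp
  obtain ⟨α, hα⟩ := compP_act w
  exact rel_trans (rel_symm (hα i)) (rel_trans (rel_map α h) (hα k))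

theorem act_unique {α : MulAut P} {σ τ : Fin 13 → Fin 13} (h : Act α σ) (h' : Act α τ) : σ = τ :=
  funext fun i => y_sep (rel_trans (rel_symm (h i)) (h' i))

theorem exists_act (α : MulAut P) : ∃ σ : Equiv.Perm (Fin 13), Act α σ := by
  have h : ∀ i, ∃ j, Rel (α (y i)) (y j) := fun i =>
    coverP (by rw [← map_pow, y_cube, map_one]) (fun e => y_ne_one i (by simpa using e))
  choose f hf using h
  have hinj : Function.Injective f := fun i k e => y_sep (by
    have hr : Rel (α (y i)) (α (y k)) := rel_trans (hf i) (e ▸ rel_symm (hf k))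
    simpa using rel_map α⁻¹ hr)
  exact ⟨Equiv.ofBijective f ⟨hinj, Finite.surjective_of_injective hinj⟩, hf⟩

/-- The permutation of the classes induced by an automorphism. -/
noncomputable def permAut : MulAut P →* Equiv.Perm (Fin 13) :=
  MonoidHom.mk' (fun α => (exists_act α).choose) fun α β => DFunLike.coe_injective (by
    rw [Equiv.Perm.coe_mul]
    exact act_unique (exists_act (α * β)).choose_spec
      (act_mul (exists_act α).choose_spec (exists_act β).choose_spec))

theorem permAut_act (α : MulAut P) : Act α (permAut α) := (exists_act α).choose_spec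

/-- The action of the outer automorphism group. -/
noncomputable def permOut : Cfsg.Out P →* Equiv.Perm (Fin 13) :=
  QuotientGroup.lift (Cfsg.Inn P) permAut (by
    rintro _ ⟨c, rfl⟩
    refine MonoidHom.mem_ker.2 (DFunLike.coe_injective (act_unique (permAut_act _) fun i => ?_))
    exact rel_symm ⟨c, Or.inl rfl⟩)

theorem card_out : Nat.card (Cfsg.Out P) = 24 := by
  have : Fact (Nat.Prime 3) := ⟨Nat.prime_three⟩
  have h := card_out_formPlus (p := 3) (f := 1) (F := K) (m := 4) le_rfl (by rw [ZMod.card, pow_one]) le_rfl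
  rw [h]
  decide

theorem permOut_image :
    Function.Injective permOut ∧ ∀ x : Cfsg.Out P, (permOut x : Fin 13 → Fin 13) ∈ perms24 := by
  classical
  have : Finite (Cfsg.Out P) := Nat.finite_of_card_ne_zero (by rw [card_out]; norm_num)
  have : Fintype (Cfsg.Out P) := Fintype.ofFinite _
  let f : Cfsg.Out P → Fin 13 → Fin 13 := fun x => ⇑(permOut x)
  have hsub : perms24.toFinset ⊆ Finset.univ.image f := by
    intro p hp
    rw [List.mem_toFinset] at hp
    obtain ⟨w, -, rfl⟩ := List.mem_map.1 hp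
    obtain ⟨α, hα⟩ := compP_act w
    exact Finset.mem_image.2 ⟨QuotientGroup.mk α, Finset.mem_univ _, act_unique (permAut_act α) hα⟩
  have h24 : perms24.toFinset.card = 24 := by
    rw [List.toFinset_card_of_nodup perms24_nodup]; rfl
  have huniv : (Finset.univ : Finset (Cfsg.Out P)).card = 24 := by
    rw [Finset.card_univ, ← Nat.card_eq_fintype_card, card_out]
  have hle : (Finset.univ.image f).card ≤ 24 := huniv ▸ Finset.card_image_le
  have heq := Finset.eq_of_subset_of_card_le hsub (by rw [h24]; exact hle)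
  refine ⟨fun x x' e => ?_, fun x => ?_⟩
  · exact Finset.injOn_of_card_image_eq (f := f) (s := Finset.univ) (by rw [← heq, h24, huniv])
      (Finset.mem_coe.2 (Finset.mem_univ x)) (Finset.mem_coe.2 (Finset.mem_univ x'))
      (show f x = f x' by simp only [f, e])
  · exact List.mem_toFinset.1 (heq ▸ Finset.mem_image_of_mem f (Finset.mem_univ x))

end Cfsg.Agent.Orthogonal.O83
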