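import Cfsg.Agent.Orthogonal.O83.Data

/-!
# The Boolean checks of the tables for `Ω⁺(8,3)`
-/

set_option autoImplicit false

namespace Cfsg.Agent.Orthogonal.O83

/-- A check along a list, with the position. -/
def checkFrom (f : ℕ → ℕ → Bool) : ℕ → List ℕ → Bool
  | _, [] => true
  | a, e :: l => f a e && checkFrom f (a + 1) l

theorem checkFrom_spec {f : ℕ → ℕ → Bool} : ∀ {a : ℕ} {l : List ℕ}, checkFrom f a l = true →
    ∀ i < l.length, f (a + i) (l.getD i 0) = true
  | _, [], _, i, hi => absurd hi (Nat.not_lt_zero i)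
  | a, e :: l, h, i, hi => by
    rw [checkFrom, Bool.and_eq_true] at h
    cases i with
    | zero => simpa using h.1
    | succ i =>
      have := checkFrom_spec h.2 i (by simpa using hi)
      rwa [show a + (i + 1) = a + 1 + i by omega, List.getD_cons_succ]

/-- A letter of the Levi factor. -/
def isLev (l : ℕ) : Bool := levMask.testBit l

/-- The check of an entry of the table of the Levi part. -/
def redOK (a e : ℕ) : Bool :=
  match e with
  | 0 => !sameW (Dw a ++ Dw a ++ Dw a) []
  | e + 1 => (decW fuel (e / 5)).all isLev &&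
      sameW (decW fuel (e / 5) ++ Dw a) (clW (e % 5) ++ decW fuel (e / 5))

/-- The representative of an entry. -/
def repIdx (e : ℕ) : Fin 13 := ⟨e % 13, Nat.mod_lt _ (by decide)⟩

/-- The check of an entry of the table of a class of the Levi part. -/
def candOK (k m e : ℕ) : Bool :=
  match e with
  | 0 => !sameW (clW k ++ Nw m ++ (clW k ++ Nw m) ++ (clW k ++ Nw m)) []
  | 1 => sameW (clW k ++ Nw m) []
  | e + 2 => sameW (decW fuel (e / 13) ++ (clW k ++ Nw m)) (repW (repIdx e) ++ decW fuel (e / 13))

end Cfsg.Agent.Orthogonal.O83
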