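import Cfsg.Agent.H27.D4

/-!
# Root words in `Ω⁺(8,3)` as pairs of bit masks

An `8 × 8` matrix over `ZMod 3` is coded by two 64-bit numbers, the positions of its entries `1` and
of its entries `-1`; left multiplication by a root element is a few bit operations, so the identities
between root words that classify the elements of order three are checked by the kernel.
-/

set_option autoImplicit false

namespace Cfsg.Agent.Orthogonal.O83

open Matrix
open Cfsg.Agent.H27.SplitOrtho (elGroup elMat op el_val)
open Cfsg.Agent.H27.D4 (I8 ra rb rs xr xe)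

/-- The field with three elements. -/
abbrev K := ZMod 3

/-- The elementary group in dimension eight over the field with three elements. -/
abbrev E := ↥(elGroup 4 K)

/-- Matrices of the natural module. -/
abbrev M8 := Matrix I8 I8 K

/-- The matrix of an element. -/
def matE (g : E) : M8 := ((g.1).1 : M8)

theorem matE_mul (g h : E) : matE (g * h) = matE g * matE h := rfl

theorem matE_one : matE 1 = 1 := rfl

theorem matE_injective : Function.Injective matE := fun _ _ h => Subtype.ext (Subtype.ext (Units.ext h))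

/-- The root of a letter. -/
def lR (l : ℕ) : Fin 24 := ⟨l / 3 % 24, Nat.mod_lt _ (by norm_num)⟩

/-- The element of a letter. -/
noncomputable def letterEl (l : ℕ) : E := xe (lR l) ((l % 3 : ℕ) : K)

/-- The element of a word. -/
noncomputable def elem (w : List ℕ) : E := (w.map letterEl).prod

theorem elem_nil : elem [] = 1 := rfl

theorem elem_cons (l : ℕ) (w : List ℕ) : elem (l :: w) = letterEl l * elem w := rfl

theorem elem_append (u v : List ℕ) : elem (u ++ v) = elem u * elem v := by
  simp [elem]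

theorem elem_singleton (l : ℕ) : elem [l] = letterEl l := by simp [elem]

/-- Masks of the entries `1` and of the entries `-1`. -/
abbrev Code := ℕ × ℕ

/-- The value of a pair of bits. -/
def bitVal (p n : Bool) : K := (if p then 1 else 0) - (if n then 1 else 0)

/-- The entry at a position. -/
def ent (c : Code) (k : ℕ) : K := bitVal (c.1.testBit k) (c.2.testBit k)

/-- Disjoint masks within 64 bits. -/
def Wf (c : Code) : Prop :=
  ∀ k, (c.1.testBit k = false ∨ c.2.testBit k = false) ∧
    (64 ≤ k → c.1.testBit k = false ∧ c.2.testBit k = false)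

/-- The sum of two codes. -/
def cadd (x y : Code) : Code :=
  ((x.1 ^^^ (x.1 &&& (y.1 ||| y.2))) ||| (y.1 ^^^ (y.1 &&& (x.1 ||| x.2))) ||| (x.2 &&& y.2),
   (x.2 ^^^ (x.2 &&& (y.1 ||| y.2))) ||| (y.2 ^^^ (y.2 &&& (x.1 ||| x.2))) ||| (x.1 &&& y.1))

theorem wf_cadd {x y : Code} (hx : Wf x) (hy : Wf y) : Wf (cadd x y) := by
  intro k
  obtain ⟨a, a'⟩ := hx k
  obtain ⟨b, b'⟩ := hy k
  refine ⟨?_, fun h => ?_⟩
  · simp only [cadd, Nat.testBit_or, Nat.testBit_and, Nat.testBit_xor]
    revert a b
    cases x.1.testBit k <;> cases x.2.testBit k <;> cases y.1.testBit k <;> cases y.2.testBit k <;> simp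
  · simp [cadd, Nat.testBit_or, Nat.testBit_and, Nat.testBit_xor, a' h, b' h]

theorem ent_cadd {x y : Code} (hx : Wf x) (hy : Wf y) (k : ℕ) :
    ent (cadd x y) k = ent x k + ent y k := by
  obtain ⟨a, -⟩ := hx k
  obtain ⟨b, -⟩ := hy k
  simp only [ent, cadd, Nat.testBit_or, Nat.testBit_and, Nat.testBit_xor]
  revert a b
  cases x.1.testBit k <;> cases x.2.testBit k <;> cases y.1.testBit k <;> cases y.2.testBit k <;>
    simp [bitVal] <;> decide

/-- One row of a mask moved to another place. -/
def mvN (P s d : ℕ) : ℕ := ((P >>> (8 * s)) &&& 255) <<< (8 * d)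

theorem testBit_mvN (P s d i j : ℕ) (hj : j < 8) :
    (mvN P s d).testBit (8 * i + j) = (decide (i = d) && P.testBit (8 * s + j)) := by
  rw [mvN, Nat.testBit_shiftLeft, Nat.testBit_and, Nat.testBit_shiftRight,
    show (255 : ℕ) = 2 ^ 8 - 1 from rfl, Nat.testBit_two_pow_sub_one]
  by_cases h : i = d
  · subst h
    simp [hj]
  · rw [decide_eq_false h, Bool.false_and]
    rcases Nat.lt_or_gt_of_ne h with h' | h'
    · rw [decide_eq_false (show ¬ (8 * i + j ≥ 8 * d) by omega), Bool.false_and]
    · rw [decide_eq_false (show ¬ (8 * i + j - 8 * d < 8) by omega), Bool.and_false, Bool.and_false]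

/-- One row of a code moved to another place. -/
def mv (c : Code) (s d : ℕ) : Code := (mvN c.1 s d, mvN c.2 s d)

theorem ent_mv (c : Code) (s d i j : ℕ) (hj : j < 8) :
    ent (mv c s d) (8 * i + j) = if i = d then ent c (8 * s + j) else 0 := by
  simp only [ent, mv, testBit_mvN _ _ _ _ _ hj]
  by_cases h : i = d <;> simp [h, bitVal]

theorem wf_mv {c : Code} (hc : Wf c) {s d : ℕ} (hd : d < 8) : Wf (mv c s d) := by
  intro k
  have h1 : k = 8 * (k / 8) + k % 8 := by omega
  rw [h1]
  simp only [mv, testBit_mvN _ _ _ _ _ (Nat.mod_lt k (by norm_num : 0 < 8))]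
  refine ⟨?_, fun h => ?_⟩
  · rcases (hc (8 * s + k % 8)).1 with e | e <;> simp [e]
  · rw [decide_eq_false (show ¬ k / 8 = d by omega)]
    simp

/-- The negative of a code. -/
def cneg (c : Code) : Code := (c.2, c.1)

theorem wf_cneg {c : Code} (hc : Wf c) : Wf (cneg c) := fun k =>
  ⟨(hc k).1.symm, fun h => ((hc k).2 h).symm⟩

theorem ent_cneg (c : Code) (k : ℕ) : ent (cneg c) k = -ent c k := by
  simp only [ent, cneg]
  cases c.1.testBit k <;> cases c.2.testBit k <;> simp [bitVal]

/-- The first end of a root. -/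
def tA (r : ℕ) : ℕ := (2574149280377060 >>> (3 * r)) &&& 7

/-- The second end of a root. -/
def tB (r : ℕ) : ℕ := (806853504828870119221 >>> (3 * r)) &&& 7

/-- The signed parameter of a letter. -/
def tS (r t : ℕ) : ℕ := if (755867 : ℕ).testBit r then (3 - t) % 3 else t

/-- The partner position. -/
def opC (a : ℕ) : ℕ := (a + 4) % 8

/-- Left multiplication by a letter. -/
def step (l : ℕ) (c : Code) : Code :=
  match tS (l / 3 % 24) (l % 3) with
  | 0 => c
  | 1 => cadd (cadd c (mv c (opC (tB (l / 3 % 24))) (tA (l / 3 % 24))))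
      (cneg (mv c (opC (tA (l / 3 % 24))) (tB (l / 3 % 24))))
  | _ => cadd (cadd c (cneg (mv c (opC (tB (l / 3 % 24))) (tA (l / 3 % 24)))))
      (mv c (opC (tA (l / 3 % 24))) (tB (l / 3 % 24)))

/-- The identity code. -/
def oneC : Code := (9241421688590303745, 0)

/-- The code of a word. -/
def wordC : List ℕ → Code
  | [] => oneC
  | l :: w => step l (wordC w)

/-- The position of an index. -/
def idx : I8 → ℕ := Sum.elim (fun i => i.val) (fun i => 4 + i.val)

theorem idx_lt : ∀ a : I8, idx a < 8 := by decide +kernel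

theorem idx_injective : ∀ a b : I8, idx a = idx b → a = b := by decide +kernel

theorem idx_surjective : ∀ k : Fin 8, ∃ a : I8, idx a = k.val := by decide +kernel

/-- The matrix of a code. -/
def toM (c : Code) : M8 := Matrix.of fun i j => ent c (8 * idx i + idx j)

theorem toM_oneC : toM oneC = 1 := by decide +kernel

theorem wf_oneC : Wf oneC := by
  intro k
  refine ⟨Or.inr (Nat.zero_testBit k), fun h => ⟨?_, Nat.zero_testBit k⟩⟩
  exact Nat.testBit_lt_two_pow (lt_of_lt_of_le (by norm_num [oneC] : oneC.1 < 2 ^ 64)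
    (Nat.pow_le_pow_right (by norm_num) h))

theorem table : ∀ r : Fin 24,
    idx (ra r) = tA r.val ∧ idx (rb r) = tB r.val ∧ idx (op (ra r)) = opC (tA r.val) ∧
      idx (op (rb r)) = opC (tB r.val) ∧ tA r.val < 8 ∧ tB r.val < 8 ∧
      ∀ t : Fin 3, tS r.val t.val < 3 ∧ ((tS r.val t.val : ℕ) : K) = (rs r : K) * ((t.val : ℕ) : K) := by
  decide +kernel

theorem step_spec (l : ℕ) {c : Code} (hc : Wf c) :
    Wf (step l c) ∧ toM (step l c) = matE (letterEl l) * toM c := by
  obtain ⟨hA, hB, hA', hB', hAlt, hBlt, hS⟩ := table (lR l)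
  obtain ⟨hs3, hs⟩ := hS ⟨l % 3, Nat.mod_lt _ (by norm_num)⟩
  have hl : matE (letterEl l) * toM c
      = elMat (ra (lR l)) (rb (lR l)) ((tS (lR l).val (l % 3) : ℕ) : K) * toM c := by
    rw [hs]; rfl
  rw [hl]
  have key : ∀ (s : K) (i j : I8), (elMat (ra (lR l)) (rb (lR l)) s * toM c) i j =
      ent c (8 * idx i + idx j)
        + s * ((if idx i = tA (lR l).val then ent c (8 * opC (tB (lR l).val) + idx j) else 0)
          - (if idx i = tB (lR l).val then ent c (8 * opC (tA (lR l).val) + idx j) else 0)) := by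
    intro s i j
    have hsingle : ∀ (a b : I8) (x : K), (Matrix.single a b x * toM c) i j =
        if idx i = idx a then x * ent c (8 * idx b + idx j) else 0 := by
      intro a b x
      by_cases h : i = a
      · subst h
        simp [toM]
      · rw [Matrix.single_mul_apply_of_ne _ _ _ _ _ h, if_neg (fun e => h (idx_injective _ _ e))]
    rw [elMat, sub_mul, add_mul, one_mul, Matrix.sub_apply, Matrix.add_apply, hsingle, hsingle,
      hA, hB, hA', hB']
    simp only [toM, Matrix.of_apply]
    split_ifs <;> ring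
  have w1 := wf_mv hc (s := opC (tB (lR l).val)) hAlt
  have w2 := wf_mv hc (s := opC (tA (lR l).val)) hBlt
  rw [show step l c = match tS (lR l).val (l % 3) with
    | 0 => c
    | 1 => cadd (cadd c (mv c (opC (tB (lR l).val)) (tA (lR l).val)))
        (cneg (mv c (opC (tA (lR l).val)) (tB (lR l).val)))
    | _ => cadd (cadd c (cneg (mv c (opC (tB (lR l).val)) (tA (lR l).val))))
        (mv c (opC (tA (lR l).val)) (tB (lR l).val)) from rfl]
  change tS (lR l).val (l % 3) < 3 at hs3
  generalize tS (lR l).val (l % 3) = s at hs3 key ⊢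
  interval_cases s
  · refine ⟨hc, ?_⟩
    ext i j
    rw [key]
    simp [toM]
  · refine ⟨wf_cadd (wf_cadd hc w1) (wf_cneg w2), ?_⟩
    ext i j
    rw [key]
    simp only [toM, Matrix.of_apply, ent_cadd (wf_cadd hc w1) (wf_cneg w2), ent_cadd hc w1, ent_cneg,
      ent_mv _ _ _ _ _ (idx_lt j)]
    push_cast
    ring
  · refine ⟨wf_cadd (wf_cadd hc (wf_cneg w1)) w2, ?_⟩
    ext i j
    rw [key]
    simp only [toM, Matrix.of_apply, ent_cadd (wf_cadd hc (wf_cneg w1)) w2,
      ent_cadd hc (wf_cneg w1), ent_cneg, ent_mv _ _ _ _ _ (idx_lt j)]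
    rw [show ((2 : ℕ) : K) = -1 from rfl]
    ring

theorem wordC_spec : ∀ w : List ℕ, Wf (wordC w) ∧ toM (wordC w) = matE (elem w)
  | [] => ⟨wf_oneC, toM_oneC⟩
  | l :: w => by
    obtain ⟨h1, h2⟩ := wordC_spec w
    obtain ⟨h3, h4⟩ := step_spec l h1
    exact ⟨h3, by rw [wordC, h4, h2, elem_cons, matE_mul]⟩

theorem toM_injective {c d : Code} (hc : Wf c) (hd : Wf d) (h : toM c = toM d) : c = d := by
  have key : ∀ k, c.1.testBit k = d.1.testBit k ∧ c.2.testBit k = d.2.testBit k := by
    intro k
    by_cases hk : 64 ≤ k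
    · obtain ⟨a, b⟩ := (hc k).2 hk
      obtain ⟨a', b'⟩ := (hd k).2 hk
      exact ⟨by rw [a, a'], by rw [b, b']⟩
    obtain ⟨i, hi⟩ := idx_surjective ⟨k / 8, by omega⟩
    obtain ⟨j, hj⟩ := idx_surjective ⟨k % 8, Nat.mod_lt _ (by norm_num)⟩
    have e := congrFun (congrFun h i) j
    simp only [toM, Matrix.of_apply, hi, hj, show 8 * (k / 8) + k % 8 = k by omega, ent] at e
    have a := (hc k).1
    have b := (hd k).1
    revert e a b
    cases c.1.testBit k <;> cases c.2.testBit k <;> cases d.1.testBit k <;> cases d.2.testBit k <;>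
      simp [bitVal] <;> decide
  exact Prod.ext (Nat.eq_of_testBit_eq fun k => (key k).1) (Nat.eq_of_testBit_eq fun k => (key k).2)

/-- Equality of codes as a Boolean. -/
def eqC (c d : Code) : Bool := Nat.beq c.1 d.1 && Nat.beq c.2 d.2

theorem eqC_iff {c d : Code} : eqC c d = true ↔ c = d := by
  simp [eqC, Prod.ext_iff]

/-- Two words give the same element. -/
def sameW (u v : List ℕ) : Bool := eqC (wordC u) (wordC v)

theorem sameW_iff {u v : List ℕ} : sameW u v = true ↔ elem u = elem v := by
  rw [sameW, eqC_iff]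
  refine ⟨fun h => matE_injective ?_, fun h => toM_injective (wordC_spec u).1 (wordC_spec v).1 ?_⟩
  · rw [← (wordC_spec u).2, ← (wordC_spec v).2, h]
  · rw [(wordC_spec u).2, (wordC_spec v).2, h]

theorem elem_eq_of_sameW {u v : List ℕ} (h : sameW u v = true) : elem u = elem v := sameW_iff.1 h

theorem elem_ne_of_sameW {u v : List ℕ} (h : sameW u v = false) : elem u ≠ elem v := fun e => by
  rw [sameW_iff.2 e] at h; exact Bool.noConfusion h

end Cfsg.Agent.Orthogonal.O83
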