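import Mathlib
import Cfsg.Agent.Orthogonal.O83.Auts
import Cfsg.Agent.Components.Basic

/-!
# The classes of subgroups of order three of `PΩ⁺(8,3)` and of its extension by the symmetric group
-/

set_option autoImplicit false

namespace Cfsg.Agent.Orthogonal.O83

theorem card_zpowers_y (i : Fin 13) : Nat.card (Subgroup.zpowers (y i)) = 3 := by
  have : Fact (Nat.Prime 3) := ⟨Nat.prime_three⟩
  rw [Nat.card_zpowers, orderOf_eq_prime (y_cube i) (y_ne_one i)]

theorem eq_or_eq_inv {M : Type*} [Group M] {a b : M} (ha : a ≠ 1) (hb : b ^ 3 = 1)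
    (h : a ∈ Subgroup.zpowers b) : a = b ∨ a = b⁻¹ := by
  obtain ⟨k, rfl⟩ := Subgroup.mem_zpowers_iff.1 h
  have hb' : b ^ (3 : ℤ) = 1 := by rw [← hb, ← zpow_natCast]; rfl
  have e : b ^ k = b ^ (k % 3) := zpow_eq_zpow_emod k hb'
  rcases (show k % 3 = 0 ∨ k % 3 = 1 ∨ k % 3 = 2 by omega) with h0 | h0 | h0 <;> rw [h0] at e
  · exact absurd (e.trans (zpow_zero b)) ha
  · exact Or.inl (e.trans (zpow_one b))
  · refine Or.inr (e.trans (eq_inv_of_mul_eq_one_left ?_))
    rw [← zpow_add_one]; exact hb'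

theorem zpowers_generates {M : Type*} [Group M] {X : Subgroup M} (hX : Nat.card X = 3) :
    ∃ x ∈ X, x ^ 3 = 1 ∧ x ≠ 1 ∧ X = Subgroup.zpowers x := by
  have : Fact (Nat.Prime 3) := ⟨Nat.prime_three⟩
  have : Finite X := Nat.finite_of_card_ne_zero (by rw [hX]; norm_num)
  have : Nontrivial X := Finite.one_lt_card_iff_nontrivial.1 (by rw [hX]; norm_num)
  obtain ⟨x, hx⟩ := exists_ne (1 : X)
  have h3 : x ^ 3 = 1 := by rw [← hX]; exact pow_card_eq_one'
  refine ⟨x, x.2, congrArg Subtype.val h3, fun e => hx (Subtype.ext e), ?_⟩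
  refine (Subgroup.eq_of_le_of_card_ge (Subgroup.zpowers_le.2 x.2) ?_).symm
  rw [hX, Nat.card_zpowers, Subgroup.orderOf_coe, orderOf_eq_prime h3 hx]

theorem rel_of_map {c a b : P} (h : (Subgroup.zpowers a).map (MulAut.conj c).toMonoidHom =
    Subgroup.zpowers b) (ha : a ≠ 1) (hb : b ^ 3 = 1) : Rel a b := by
  rw [MonoidHom.map_zpowers] at h
  exact ⟨c, eq_or_eq_inv (by simpa using ha) hb (h ▸ Subgroup.mem_zpowers (c * a * c⁻¹))⟩

theorem map_of_rel {M : Type*} [Group M] {c a b : M} (h : c * a * c⁻¹ = b ∨ c * a * c⁻¹ = b⁻¹) :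
    (Subgroup.zpowers a).map (MulAut.conj c).toMonoidHom = Subgroup.zpowers b := by
  rw [MonoidHom.map_zpowers]
  show Subgroup.zpowers (c * a * c⁻¹) = _
  rcases h with h | h <;> rw [h]
  exact Subgroup.zpowers_inv

/-- The thirteen classes of subgroups of order three. -/
theorem exists_classes : ∃ Y : Fin 13 → Subgroup P, (∀ i, Nat.card (Y i) = 3) ∧
    (∀ i j, (∃ g : P, (Y i).map (MulAut.conj g).toMonoidHom = Y j) → i = j) ∧
    ∀ X : Subgroup P, Nat.card X = 3 → ∃ i, ∃ g : P, X.map (MulAut.conj g).toMonoidHom = Y i := by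
  refine ⟨fun i => Subgroup.zpowers (y i), card_zpowers_y, ?_, ?_⟩
  · rintro i j ⟨g, hg⟩
    exact y_sep (rel_of_map hg (y_ne_one i) (y_cube j))
  · intro X hX
    obtain ⟨x, -, h3, h1, rfl⟩ := zpowers_generates hX
    obtain ⟨j, c, hc⟩ := coverP h3 h1
    exact ⟨j, c, map_of_rel hc⟩

theorem center_P : Subgroup.center P = ⊥ := by
  have : IsSimpleGroup P := isSimpleGroup_POmega (formPlus_nondeg K 4) (by rw [finrank_formPlus]; norm_num)
  refine (Subgroup.Normal.eq_bot_or_eq_top (inferInstance : (Subgroup.center P).Normal)).resolve_right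
    fun htop => ?_
  have hcomm : ∀ a b : P, a * b = b * a := fun a b =>
    (Subgroup.mem_center_iff.1 (htop ▸ Subgroup.mem_top b) a)
  have hi : qP (elem [64]) * qP (elem [65]) = 1 ∧ qP (elem [37]) * qP (elem [38]) = 1 := by
    rw [← map_mul, ← map_mul, ← elem_append, ← elem_append, elem_eq_one_of_sameW (by decide +kernel),
      elem_eq_one_of_sameW (by decide +kernel), map_one]
    exact ⟨rfl, rfl⟩
  have hq : qP (elem [64, 37, 65, 38]) = 1 := by
    rw [show ([64, 37, 65, 38] : List ℕ) = [64] ++ [37] ++ [65] ++ [38] from rfl, elem_append, elem_append,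
      elem_append, map_mul, map_mul, map_mul, hcomm (qP (elem [64])), mul_assoc (qP (elem [37])), hi.1,
      mul_one, hi.2]
  have h2 := sq_of_qP_eq_one hq
  rw [pow_two, ← elem_append, ← elem_nil] at h2
  exact elem_ne_of_sameW (by decide +kernel) h2

variable {G : Type*} [Group G] [Finite G] {L : Subgroup G} [L.Normal]

/-- Conjugation on the socle, transported to the group `PΩ⁺(8,3)`. -/
noncomputable def socleConj (e : ↥L ≃* P) : G →* MulAut P :=
  (MulAut.congr e).toMonoidHom.comp MulAut.conjNormal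

theorem socleConj_apply (e : ↥L ≃* P) (g : G) (l : ↥L) :
    socleConj e g (e l) = e (MulAut.conjNormal g l) := by
  show e (MulAut.conjNormal g (e.symm (e l))) = _
  rw [MulEquiv.symm_apply_apply]

theorem socleConj_coe (e : ↥L ≃* P) (l : ↥L) : socleConj e (l : G) = MulAut.conj (e l) := by
  refine MulEquiv.ext fun p => ?_
  obtain ⟨m, rfl⟩ := e.surjective p
  rw [socleConj_apply, MulAut.conj_apply, ← map_inv, ← map_mul, ← map_mul]
  exact congrArg e (Subtype.ext (by simp [MulAut.conjNormal_apply]))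

theorem socleConj_injective (e : ↥L ≃* P) (hL : L = Cfsg.generalizedFittingSubgroup G) :
    Function.Injective (socleConj e) := by
  refine (injective_iff_map_eq_one _).2 fun g hg => ?_
  have hfix : ∀ l : ↥L, MulAut.conjNormal g l = l := fun l => e.injective (by
    rw [← socleConj_apply, hg]; rfl)
  have hgC : g ∈ Subgroup.centralizer (L : Set G) := fun x hx => by
    have h := congrArg Subtype.val (hfix ⟨x, hx⟩)
    rw [MulAut.conjNormal_apply] at h
    exact (eq_mul_inv_iff_mul_eq.1 h.symm)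
  have hgL : g ∈ L := hL ▸ Components.centralizer_genFitting_le (hL ▸ hgC)
  have hz : e ⟨g, hgL⟩ ∈ Subgroup.center P := by
    refine Subgroup.mem_center_iff.2 fun p => ?_
    obtain ⟨m, rfl⟩ := e.surjective p
    rw [← map_mul, ← map_mul]
    exact congrArg e (Subtype.ext (hgC m.1 m.2))
  rw [center_P, Subgroup.mem_bot, ← map_one e] at hz
  exact congrArg Subtype.val (e.injective hz)

/-- The action of the quotient by the socle on the classes. -/
noncomputable def quotPerm (e : ↥L ≃* P) : G ⧸ L →* Equiv.Perm (Fin 13) :=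
  QuotientGroup.lift L (permAut.comp (socleConj e)) (fun l hl => by
    rw [MonoidHom.mem_ker, MonoidHom.comp_apply, socleConj_coe e ⟨l, hl⟩]
    refine DFunLike.coe_injective (act_unique (permAut_act _) fun i => ?_)
    exact rel_symm ⟨e ⟨l, hl⟩, Or.inl rfl⟩)

theorem quotPerm_injective (e : ↥L ≃* P) (hL : L = Cfsg.generalizedFittingSubgroup G) :
    Function.Injective (quotPerm e) := by
  refine (injective_iff_map_eq_one _).2 fun x hx => ?_
  induction x using QuotientGroup.induction_on with | _ g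
  have h : permOut (QuotientGroup.mk (socleConj e g)) = 1 := hx
  rw [← map_one permOut] at h
  obtain ⟨c, hc⟩ := (QuotientGroup.eq_one_iff _).1 (permOut_image.1 h)
  obtain ⟨l, rfl⟩ := e.surjective c
  rw [← socleConj_coe] at hc
  exact (QuotientGroup.eq_one_iff _).2 (socleConj_injective e hL hc ▸ l.2)

theorem perm_six : ∀ σ : Equiv.Perm (Fin 3),
    σ ∈ [1, finRotate 3, finRotate 3 * finRotate 3, Equiv.swap 0 1, Equiv.swap 0 1 * finRotate 3,
      Equiv.swap 0 1 * (finRotate 3 * finRotate 3)] := by decide +kernel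

theorem perm_rels : finRotate 3 * (finRotate 3 * finRotate 3) = 1 ∧
    (Equiv.swap 0 1 : Equiv.Perm (Fin 3)) * Equiv.swap 0 1 = 1 ∧
    Equiv.swap 0 1 * (finRotate 3 * Equiv.swap 0 1) = finRotate 3 * finRotate 3 ∧
    finRotate 3 ≠ 1 ∧ (Equiv.swap 0 1 : Equiv.Perm (Fin 3)) ≠ 1 := by decide +kernel

theorem exists_six (e : ↥L ≃* P) (hL : L = Cfsg.generalizedFittingSubgroup G)
    (f : G ⧸ L ≃* Equiv.Perm (Fin 3)) :
    ∃ S : List (Fin 13 → Fin 13), ((List.finRange 13).filter (minB S)).length = 7 ∧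
      (∀ i, ∃ s ∈ S, minB S (s i) = true) ∧
      (∀ x : G ⧸ L, (quotPerm e x : Fin 13 → Fin 13) ∈ S) ∧
      ∀ s ∈ S, ∃ x : G ⧸ L, (quotPerm e x : Fin 13 → Fin 13) = s := by
  set ψ : Equiv.Perm (Fin 3) →* Equiv.Perm (Fin 13) := (quotPerm e).comp f.symm.toMonoidHom
  have hψ : Function.Injective ψ := (quotPerm_injective e hL).comp f.symm.injective
  have hmem : ∀ σ, (ψ σ : Fin 13 → Fin 13) ∈ perms24 := by
    intro σ
    show (quotPerm e (f.symm σ) : Fin 13 → Fin 13) ∈ perms24
    induction f.symm σ using QuotientGroup.induction_on with | _ g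
    exact permOut_image.2 (QuotientGroup.mk (socleConj e g))
  have hne : ∀ σ, σ ≠ 1 → (ψ σ : Fin 13 → Fin 13) ≠ id := fun σ hσ h =>
    hσ (hψ ((DFunLike.coe_injective h).trans (map_one ψ).symm))
  obtain ⟨r1, r2, r3, r4, r5⟩ := perm_rels
  have hcomp : ∀ a b, (ψ (a * b) : Fin 13 → Fin 13) = ψ a ∘ ψ b := fun a b => by
    rw [map_mul, Equiv.Perm.coe_mul]
  have hone : (ψ 1 : Fin 13 → Fin 13) = id := by rw [map_one, Equiv.Perm.coe_one]
  obtain ⟨h7, hmin⟩ := seven (hmem (finRotate 3)) (hmem (Equiv.swap 0 1))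
    (by rw [← hcomp, ← hcomp, r1, hone]) (by rw [← hcomp, r2, hone])
    (by rw [← hcomp, ← hcomp, r3, hcomp]) (hne _ r4) (hne _ r5)
  refine ⟨_, h7, hmin, fun x => ?_, fun s hs => ?_⟩
  · obtain ⟨σ, rfl⟩ := f.symm.surjective x
    show (ψ σ : Fin 13 → Fin 13) ∈ _
    have h := perm_six σ
    simp only [List.mem_cons, List.not_mem_nil, or_false] at h
    rcases h with rfl | rfl | rfl | rfl | rfl | rfl <;> simp [six, hcomp, hone]
  · simp only [six, List.mem_cons, List.not_mem_nil, or_false] at hs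
    have h : ∃ σ, (ψ σ : Fin 13 → Fin 13) = s := by
      rcases hs with rfl | rfl | rfl | rfl | rfl | rfl
      · exact ⟨1, hone⟩
      · exact ⟨_, rfl⟩
      · exact ⟨_, hcomp _ _⟩
      · exact ⟨_, rfl⟩
      · exact ⟨_, hcomp _ _⟩
      · exact ⟨Equiv.swap 0 1 * (finRotate 3 * finRotate 3), by rw [hcomp, hcomp]⟩
    obtain ⟨σ, hσ⟩ := h
    exact ⟨f.symm σ, hσ⟩

theorem exists_orbits (e : ↥L ≃* P) (hL : L = Cfsg.generalizedFittingSubgroup G)
    (hq : Nonempty (G ⧸ L ≃* Equiv.Perm (Fin 3))) :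
    ∃ Y : Fin 7 → Subgroup G, (∀ i, Y i ≤ L ∧ Nat.card (Y i) = 3) ∧
      (∀ i j, (∃ g : G, (Y i).map (MulAut.conj g).toMonoidHom = Y j) → i = j) ∧
      ∀ X : Subgroup G, X ≤ L → Nat.card X = 3 → ∃ i, ∃ g : G, X.map (MulAut.conj g).toMonoidHom = Y i := by
  obtain ⟨f⟩ := hq
  obtain ⟨S, h7, hmin, hS, hS'⟩ := exists_six e hL f
  set M := (List.finRange 13).filter (minB S)
  let a : Fin 13 → G := fun i => ((e.symm (y i) : ↥L) : G)
  have hmv : ∀ (g : G) (x : ↥L), e (MulAut.conjNormal g x) = socleConj e g (e x) := fun g x =>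
    (socleConj_apply e g x).symm
  have hrel : ∀ (g : G) (i : Fin 13), Rel (socleConj e g (y i)) (y (quotPerm e g i)) := fun g i =>
    permAut_act (socleConj e g) i
  refine ⟨fun k => Subgroup.zpowers (a (M.get (Fin.cast h7.symm k))), fun k => ⟨?_, ?_⟩, ?_, ?_⟩
  · exact Subgroup.zpowers_le.2 (e.symm (y _)).2
  · have : Fact (Nat.Prime 3) := ⟨Nat.prime_three⟩
    show Nat.card (Subgroup.zpowers (a _)) = 3
    rw [Nat.card_zpowers]
    exact (Subgroup.orderOf_coe _).trans
      ((MulEquiv.orderOf_eq e.symm _).trans (orderOf_eq_prime (y_cube _) (y_ne_one _)))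
  · rintro i j ⟨g, hg⟩
    set u := M.get (Fin.cast h7.symm i)
    set v := M.get (Fin.cast h7.symm j)
    change (Subgroup.zpowers (a u)).map (MulAut.conj g).toMonoidHom = Subgroup.zpowers (a v) at hg
    rw [MonoidHom.map_zpowers] at hg
    have hmem : g * a u * g⁻¹ ∈ Subgroup.zpowers (a v) := by
      rw [← hg]; exact Subgroup.mem_zpowers _
    have hne : g * a u * g⁻¹ ≠ 1 := fun h => y_ne_one u (by
      rw [conj_eq_one_iff] at h
      simpa using congrArg e (show e.symm (y u) = 1 from Subtype.ext h))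
    have hv3 : a v ^ 3 = 1 := by
      show ((e.symm (y v) : ↥L) : G) ^ 3 = 1
      rw [← SubmonoidClass.coe_pow, ← map_pow, y_cube, map_one, OneMemClass.coe_one]
    have hR : Rel (socleConj e g (y u)) (y v) := by
      refine ⟨1, ?_⟩
      rw [one_mul, inv_one, mul_one, show socleConj e g (y u) = e (MulAut.conjNormal g (e.symm (y u))) from rfl]
      rcases eq_or_eq_inv hne hv3 hmem with h | h
      · left
        rw [show MulAut.conjNormal g (e.symm (y u)) = e.symm (y v) from Subtype.ext h, e.apply_symm_apply]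
      · right
        rw [show MulAut.conjNormal g (e.symm (y u)) = (e.symm (y v))⁻¹ from Subtype.ext h, map_inv,
          e.apply_symm_apply]
    have huv : quotPerm e g u = v := y_sep (rel_trans (rel_symm (hrel g u)) hR)
    have hminM : ∀ k : Fin 7, ∀ s ∈ S, M.get (Fin.cast h7.symm k) ≤ s (M.get (Fin.cast h7.symm k)) := by
      intro k s hs
      have h := (List.mem_filter.1 (List.get_mem M (Fin.cast h7.symm k))).2
      exact of_decide_eq_true (List.all_eq_true.1 h s hs)
    have h1 : u ≤ v := huv ▸ hminM i _ (hS g)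
    have h2 : v ≤ u := by
      have h := hminM j _ (hS (g : G ⧸ L)⁻¹)
      rwa [map_inv, show (quotPerm e (g : G ⧸ L))⁻¹ v = u from
        Equiv.Perm.inv_eq_iff_eq.2 huv.symm] at h
    have huveq : u = v := le_antisymm h1 h2
    exact Fin.cast_injective _ ((List.nodup_iff_injective_get.1 ((List.nodup_finRange 13).filter _)) huveq)
  · intro X hXL hX
    obtain ⟨x, hxX, h3, h1, rfl⟩ := zpowers_generates hX
    obtain ⟨i, hi⟩ := coverP (x := e ⟨x, hXL hxX⟩)
      (by rw [← map_pow, show (⟨x, hXL hxX⟩ : ↥L) ^ 3 = 1 from Subtype.ext h3, map_one])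
      (fun h => h1 (congrArg Subtype.val (e.map_eq_one_iff.1 h)))
    obtain ⟨s, hs, hsmin⟩ := hmin i
    obtain ⟨q, hq⟩ := hS' s hs
    induction q using QuotientGroup.induction_on with | _ g
    have hmemM : s i ∈ M := List.mem_filter.2 ⟨List.mem_finRange _, hsmin⟩
    obtain ⟨k, hk⟩ := List.get_of_mem hmemM
    obtain ⟨c, hc⟩ := rel_trans (rel_map (socleConj e g) hi) (hrel g i)
    obtain ⟨l, rfl⟩ := e.surjective c
    refine ⟨Fin.cast h7 k, (l : G) * g, map_of_rel ?_⟩
    rw [show M.get (Fin.cast h7.symm (Fin.cast h7 k)) = s i from hk]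
    have hcalc : ((l : G) * g) * x * ((l : G) * g)⁻¹ =
        ((l * MulAut.conjNormal g ⟨x, hXL hxX⟩ * l⁻¹ : ↥L) : G) := by
      simp [MulAut.conjNormal_apply, mul_assoc]
    rw [hcalc]
    rw [← map_inv, ← hmv, ← map_mul, ← map_mul, show quotPerm e g i = s i from congrFun hq i] at hc
    show _ = ((e.symm (y (s i)) : ↥L) : G) ∨ _ = ((e.symm (y (s i)) : ↥L) : G)⁻¹
    rcases hc with hc | hc
    · exact Or.inl (congrArg Subtype.val (e.eq_symm_apply.2 hc))
    · exact Or.inr (by
        rw [← InvMemClass.coe_inv, ← map_inv]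
        exact congrArg Subtype.val (e.eq_symm_apply.2 hc))

end Cfsg.Agent.Orthogonal.O83
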